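import Cfsg.Agent.S3020
import Cfsg.Agent.Lib.Solv.Coprime
import Cfsg.Agent.Lib.Char.PPartElem
import Cfsg.Agent.Lib.Fusion.Cores

/-!
# Extremely closed abelian `p`-subgroups: pairs of conjugates, inheritance
-/

set_option autoImplicit false

open scoped Pointwise commutatorElement
open Cfsg

namespace Cfsg.Agent.Lie.EC

variable {G : Type*} [Group G] {p : ℕ}

/-- An abelian extremely closed `p`-subgroup. -/
structure Hyp (p : ℕ) (H : Subgroup G) : Prop where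
  pgroup : IsPGroup p H
  comm : ∀ x ∈ H, ∀ y ∈ H, x * y = y * x
  closed : IsExtremelyClosed H

theorem Hyp.mulComm {H : Subgroup G} (h : Hyp p H) : IsMulCommutative H :=
  ⟨⟨fun a b => Subtype.ext (h.comm a a.2 b b.2)⟩⟩

theorem Hyp.le_centralizer {H : Subgroup G} (h : Hyp p H) :
    H ≤ Subgroup.centralizer (H : Set G) := fun x hx =>
  Subgroup.mem_centralizer_iff.2 fun y hy => h.comm y hy x hx

theorem Hyp.isSolvable {H : Subgroup G} (h : Hyp p H) : Group.IsSolvable H :=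
  haveI := h.mulComm
  Group.isSolvable_of_comm fun a b => mul_comm' a b

theorem not_dvd_of_le [Finite G] {A B : Subgroup G} (hle : A ≤ B) (h : ¬ p ∣ Nat.card B) :
    ¬ p ∣ Nat.card A := fun hd => h (hd.trans (Subgroup.card_dvd_of_le hle))

theorem coprime_card [Fact p.Prime] [Finite G] {A Q : Subgroup G} (hA : IsPGroup p A)
    (hQ : ¬ p ∣ Nat.card Q) : (Nat.card A).Coprime (Nat.card Q) := by
  obtain ⟨n, hn⟩ := IsPGroup.iff_card.1 hA
  rw [hn]
  exact Nat.Coprime.pow_left n ((Fact.out : p.Prime).coprime_iff_not_dvd.2 hQ)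

theorem coprime_orderOf [Fact p.Prime] [Finite G] {Q : Subgroup G} {x : G}
    (hQ : ¬ p ∣ Nat.card Q) (hx : x ∈ Q) : ¬ p ∣ orderOf x := fun hd =>
  hQ (hd.trans (Subgroup.orderOf_mk x hx ▸ orderOf_dvd_natCard _))

theorem ppower [Fact p.Prime] {H : Subgroup G} (hH : IsPGroup p H) {x : G} (hx : x ∈ H) :
    ∃ k : ℕ, orderOf x = p ^ k := by
  obtain ⟨k, hk⟩ := IsPGroup.iff_orderOf.1 hH ⟨x, hx⟩
  exact ⟨k, by rwa [Subgroup.orderOf_mk] at hk⟩

variable [Finite G] [Fact p.Prime]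

/-- The normal `p`-complement of a pair of conjugates. -/
theorem Hyp.exists_core {H : Subgroup G} (h : Hyp p H) (g : G) :
    ∃ Q : Subgroup G, H ≤ Subgroup.normalizer (Q : Set G) ∧ ¬ p ∣ Nat.card Q ∧
      Q ≤ H ⊔ H.map (MulAut.conj g).toMonoidHom ∧
      H ⊔ H.map (MulAut.conj g).toMonoidHom = H ⊔ Q ∧
      Q ⊓ Subgroup.normalizer (H : Set G) = ⊥ ∧
      ∃ x ∈ Q, x⁻¹ * g ∈ Subgroup.normalizer (H : Set G) := by
  set L := H ⊔ H.map (MulAut.conj g).toMonoidHom with hL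
  obtain ⟨h1, h2⟩ := Cfsg.Agent.S3020.result H h.pgroup h.mulComm h.closed g L hL
  set Q := (Cfsg.pPrimeCore p ↥L).map L.subtype with hQ
  have hQL : Q ≤ L := Subgroup.map_subtype_le _
  have hQp : ¬ p ∣ Nat.card Q := by
    rw [hQ, Subgroup.card_map_of_injective L.subtype_injective]
    exact ((Fact.out : p.Prime).coprime_iff_not_dvd.1 (Fusion.card_pPrimeCore_coprime p ↥L).symm)
  have hLQ : L ≤ Subgroup.normalizer (Q : Set G) := fun x hx => by
    have hn : (Cfsg.pPrimeCore p ↥L).Normal := inferInstance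
    have key : ∀ y ∈ L, ∀ z ∈ Q, y * z * y⁻¹ ∈ Q := by
      rintro y hy _ ⟨z, hz, rfl⟩
      exact ⟨⟨y, hy⟩ * z * ⟨y, hy⟩⁻¹, hn.conj_mem z hz _, rfl⟩
    refine Subgroup.mem_normalizer_iff.2 fun z => ⟨key x hx z, fun hz => ?_⟩
    have := key x⁻¹ (inv_mem hx) _ hz
    simpa [mul_assoc] using this
  have hHQ : H ≤ Subgroup.normalizer (Q : Set G) := le_sup_left.trans hLQ
  have hQN : Q ⊓ Subgroup.normalizer (H : Set G) = ⊥ := by
    rw [eq_bot_iff, ← h2]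
    exact fun z hz => ⟨(h.closed g).le ⟨hQL hz.1, hz.2⟩, hz.1⟩
  refine ⟨Q, hHQ, hQp, hQL, h1.symm, hQN, ?_⟩
  obtain ⟨x, hx, hxH⟩ := Solv.sz_conj_rel Q H (MulAut.conj g • H) hHQ
    (by
      rw [Solv.conj_smul_eq_map, sup_comm, h1]
      exact le_sup_right)
    (coprime_card h.pgroup hQp).symm (Solv.card_conj_smul g H) (Or.inr h.isSolvable)
  refine ⟨x, hx, Solv.mem_normalizer_of_conj_smul ?_⟩
  rw [map_mul, mul_smul, ← hxH, ← mul_smul, ← map_mul, inv_mul_cancel, map_one, one_smul]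

/-- In a coset of a normal `p'`-subgroup a `p`-element meets all classes through its centralizer. -/
theorem exists_conj_coset {Q : Subgroup G} (hQ : ¬ p ∣ Nat.card Q) {h : G}
    (hh : h ∈ Subgroup.normalizer (Q : Set G)) (hp : ∃ k : ℕ, orderOf h = p ^ k) {w : G}
    (hw : w ∈ Q) : ∃ y ∈ Q, ∃ r ∈ Q, Commute h r ∧ h * w = y * (h * r) * y⁻¹ := by
  classical
  set C := Q ⊓ Subgroup.centralizer ({h} : Set G) with hC
  have hcomm : ∀ r : C, Commute h (r : G) := fun r =>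
    (Subgroup.mem_centralizer_singleton_iff.1 r.2.2).symm
  let Φ : Q × C → Q := fun yr => ⟨h⁻¹ * ((yr.1 : G) * (h * (yr.2 : G)) * (yr.1 : G)⁻¹), by
    have hy : h⁻¹ * (yr.1 : G) * h⁻¹⁻¹ ∈ Q :=
      (Subgroup.mem_normalizer_iff.1 (inv_mem hh) _).1 yr.1.2
    have := Q.mul_mem (Q.mul_mem hy yr.2.2.1) (inv_mem yr.1.2)
    rwa [show h⁻¹ * (yr.1 : G) * h⁻¹⁻¹ * (yr.2 : G) * (yr.1 : G)⁻¹ =
      h⁻¹ * ((yr.1 : G) * (h * (yr.2 : G)) * (yr.1 : G)⁻¹) by group] at this⟩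
  suffices hs : Function.Surjective Φ by
    obtain ⟨⟨y, r⟩, he⟩ := hs ⟨w, hw⟩
    refine ⟨y, y.2, r, r.2.1, hcomm r, ?_⟩
    rw [← show h⁻¹ * ((y : G) * (h * (r : G)) * (y : G)⁻¹) = w from congrArg Subtype.val he,
      mul_inv_cancel_left]
  have hkey : ∀ a b : Q × C, Φ a = Φ b → ((a.1 : G))⁻¹ * (b.1 : G) ∈ C := by
    intro a b hab
    have e : (a.1 : G) * (h * (a.2 : G)) * (a.1 : G)⁻¹ = (b.1 : G) * (h * (b.2 : G)) * (b.1 : G)⁻¹ :=
      mul_left_cancel (congrArg Subtype.val hab)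
    have hpp : ∀ u : Q × C, Char.ppt p ((u.1 : G) * (h * (u.2 : G)) * (u.1 : G)⁻¹) =
        (u.1 : G) * h * (u.1 : G)⁻¹ := fun u => by
      rw [Char.ppt_conj Fact.out, Char.ppt_mul Fact.out (hcomm u.2) hp
        (coprime_orderOf hQ u.2.2.1)]
    have e2 := hpp a
    rw [e, hpp b] at e2
    refine ⟨Q.mul_mem (inv_mem a.1.2) b.1.2, Subgroup.mem_centralizer_singleton_iff.2 ?_⟩
    calc (a.1 : G)⁻¹ * b.1 * h = (a.1 : G)⁻¹ * ((b.1 : G) * h * (b.1 : G)⁻¹) * b.1 := by group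
      _ = h * ((a.1 : G)⁻¹ * b.1) := by rw [e2]; group
  let R : Set Q := Set.range Φ
  let sec : R → Q × C := fun z => z.2.choose
  have hsec : ∀ z : R, Φ (sec z) = z := fun z => z.2.choose_spec
  let Ψ : Q × C → R × C := fun a =>
    (⟨Φ a, a, rfl⟩, ⟨((sec ⟨Φ a, a, rfl⟩).1 : G)⁻¹ * (a.1 : G),
      hkey _ a (hsec ⟨Φ a, a, rfl⟩)⟩)
  have hinj : Function.Injective Ψ := by
    intro a b hab
    have e1 : Φ a = Φ b := congrArg Subtype.val (congrArg Prod.fst hab)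
    have e2 := congrArg Subtype.val (congrArg Prod.snd hab)
    have e3 : (⟨Φ a, a, rfl⟩ : R) = ⟨Φ b, b, rfl⟩ := Subtype.ext e1
    simp only [Ψ, e3] at e2
    have ey : a.1 = b.1 := Subtype.ext (mul_left_cancel e2)
    have er : (a.2 : G) = b.2 := by
      have := mul_left_cancel (congrArg Subtype.val e1)
      rw [ey] at this
      exact mul_left_cancel (mul_left_cancel (mul_right_cancel this))
    exact Prod.ext ey (Subtype.ext er)
  have hcard := Nat.card_le_card_of_injective Ψ hinj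
  rw [Nat.card_prod, Nat.card_prod] at hcard
  have hR : R = Set.univ := Set.eq_univ_of_forall fun z => by
    by_contra hz
    have : Nat.card R < Nat.card Q := by
      rw [Nat.card_coe_set_eq, ← Set.ncard_univ]
      exact Set.ncard_lt_ncard (Set.ssubset_univ_iff.2 fun e => hz (e ▸ Set.mem_univ z))
    exact absurd hcard (Nat.not_le.2 (Nat.mul_lt_mul_of_pos_right this Nat.card_pos))
  exact Set.range_eq_univ.1 hR

/-- `N(H)` controls fusion in `H`. -/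
theorem Hyp.fusion {H : Subgroup G} (h : Hyp p H) {a g : G} (ha : a ∈ H)
    (hga : g * a * g⁻¹ ∈ H) :
    ∃ n ∈ Subgroup.normalizer (H : Set G), n * a * n⁻¹ = g * a * g⁻¹ := by
  obtain ⟨Q, hHQ, hQp, -, -, hQN, x, hx, hn⟩ := h.exists_core g
  refine ⟨_, hn, ?_⟩
  set b := x⁻¹ * g * a * (x⁻¹ * g)⁻¹ with hb
  have hbH : b ∈ H := (Subgroup.mem_normalizer_iff.1 hn a).1 ha
  have hga' : g * a * g⁻¹ = x * b * x⁻¹ := by rw [hb]; group
  have h1 : g * a * g⁻¹ * b⁻¹ ∈ Q := by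
    rw [hga', show x * b * x⁻¹ * b⁻¹ = x * (b * x⁻¹ * b⁻¹) by group]
    exact Q.mul_mem hx ((Subgroup.mem_normalizer_iff.1 (hHQ hbH) _).1 (inv_mem hx))
  have h2 : g * a * g⁻¹ * b⁻¹ ∈ H := H.mul_mem hga (inv_mem hbH)
  have h3 : g * a * g⁻¹ * b⁻¹ = 1 := by
    rw [← Subgroup.mem_bot, ← hQN]
    exact ⟨h1, Subgroup.le_normalizer h2⟩
  exact (mul_inv_eq_one.1 h3).symm

/-- Extremely closed subgroups stay so in every subgroup. -/
theorem Hyp.subgroup {H : Subgroup G} (h : Hyp p H) {U : Subgroup G} (hU : H ≤ U) :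
    Hyp p (H.subgroupOf U) := by
  refine ⟨h.pgroup.comap_subtype, fun x hx y hy => Subtype.ext (h.comm _ hx _ hy),
    fun g => le_antisymm (fun z hz => ?_) (le_inf le_sup_left Subgroup.le_normalizer)⟩
  refine (h.closed (g : G)).le ⟨?_, ?_⟩
  · have hm : ((H.subgroupOf U) ⊔ (H.subgroupOf U).map (MulAut.conj g).toMonoidHom).map U.subtype ≤
        H ⊔ H.map (MulAut.conj (g : G)).toMonoidHom := by
      rw [Subgroup.map_sup]
      refine sup_le_sup ?_ ?_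
      · rintro _ ⟨y, hy, rfl⟩; exact hy
      · rintro _ ⟨_, ⟨y, hy, rfl⟩, rfl⟩; exact ⟨y, hy, rfl⟩
    exact hm ⟨z, hz.1, rfl⟩
  · refine Fusion.mem_normalizer_of_cj_le ?_
    rintro _ ⟨y, hy, rfl⟩
    exact (Subgroup.mem_normalizer_iff.1 hz.2 ⟨y, hU hy⟩).1 hy

/-- Extremely closed abelian `p`-subgroups have extremely closed images. -/
theorem Hyp.map {H : Subgroup G} (h : Hyp p H) {G' : Type*} [Group G'] [Finite G'] (f : G →* G')
    (hf : Function.Surjective f) : Hyp p (H.map f) := by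
  refine ⟨h.pgroup.map f, ?_, fun g' =>
    le_antisymm (fun z hz => ?_) (le_inf le_sup_left Subgroup.le_normalizer)⟩
  · rintro _ ⟨x, hx, rfl⟩ _ ⟨y, hy, rfl⟩
    rw [← map_mul, ← map_mul, h.comm x hx y hy]
  obtain ⟨g, rfl⟩ := hf g'
  obtain ⟨Q, hHQ, hQp, hQL, hL, hQN, -⟩ := h.exists_core g
  have hmap : (H ⊔ Q).map f = H.map f ⊔ (H.map f).map (MulAut.conj (f g)).toMonoidHom := by
    rw [← hL, Subgroup.map_sup, Subgroup.map_map, Subgroup.map_map]
    congr 2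
    ext x
    simp
  obtain ⟨l, hl, rfl⟩ : z ∈ (H ⊔ Q).map f := hmap ▸ hz.1
  have hl' : l ∈ ((H : Set G) * (Q : Set G)) := by
    rw [← Subgroup.coe_mul_of_left_le_normalizer_right H Q hHQ]; exact hl
  obtain ⟨a, ha, q, hq, rfl⟩ := hl'
  rw [map_mul]
  refine mul_mem ⟨a, ha, rfl⟩ ?_
  have hqn : f q ∈ Subgroup.normalizer ((H.map f : Subgroup G') : Set G') := by
    have := mul_mem (inv_mem (Subgroup.le_normalizer ⟨a, ha, rfl⟩ :
      f a ∈ Subgroup.normalizer ((H.map f : Subgroup G') : Set G'))) hz.2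
    rwa [map_mul, inv_mul_cancel_left] at this
  have hD : ∀ b ∈ H, q⁻¹ * (b * q * b⁻¹) ∈ Q ⊓ f.ker := by
    intro b hb
    have h1 : q⁻¹ * (b * q * b⁻¹) ∈ Q :=
      Q.mul_mem (inv_mem hq) ((Subgroup.mem_normalizer_iff.1 (hHQ hb) q).1 hq)
    have h2 : f (q⁻¹ * (b * q * b⁻¹)) ∈ H.map f := by
      rw [show q⁻¹ * (b * q * b⁻¹) = q⁻¹ * b * q * b⁻¹ by group, map_mul, map_inv]
      refine mul_mem ?_ (inv_mem ⟨b, hb, rfl⟩)
      rw [map_mul, map_mul, map_inv]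
      have := (Subgroup.mem_normalizer_iff.1 (inv_mem hqn) (f b)).1 ⟨b, hb, rfl⟩
      rwa [inv_inv] at this
    have h3 : (Q.map f) ⊓ (H.map f) = ⊥ := by
      refine Solv.coprime_inf (Nat.Coprime.coprime_dvd_left (Subgroup.card_map_dvd _ f) ?_)
      exact Nat.Coprime.coprime_dvd_right (Subgroup.card_map_dvd _ f) (coprime_card h.pgroup hQp).symm
    exact ⟨h1, MonoidHom.mem_ker.2 (Subgroup.mem_bot.1 (h3 ▸ ⟨⟨_, h1, rfl⟩, h2⟩))⟩
  obtain ⟨c, hc, hqc⟩ := Solv.exists_fixed_in_coset' H Q (Q ⊓ f.ker) hHQ (coprime_card h.pgroup hQp)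
    (Or.inl h.isSolvable) inf_le_left
    (fun b hb => by
      refine Subgroup.mem_normalizer_iff.2 fun y => ⟨fun hy => ⟨(Subgroup.mem_normalizer_iff.1
        (hHQ hb) y).1 hy.1, f.normal_ker.conj_mem y hy.2 b⟩, fun hy => ⟨(Subgroup.mem_normalizer_iff.1
        (hHQ hb) y).2 hy.1, ?_⟩⟩
      have := f.normal_ker.conj_mem _ hy.2 b⁻¹
      simpa [mul_assoc] using this)
    hq hD
  have hc1 : c = 1 := by
    rw [← Subgroup.mem_bot, ← hQN]
    exact ⟨hc.1, Subgroup.centralizer_le_normalizer _ hc.2⟩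
  rw [hc1, mul_one] at hqc
  have : f q = 1 := by simpa using hqc.2
  rw [this]
  exact one_mem _

end Cfsg.Agent.Lie.EC
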