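import Cfsg.Agent.Lib.Lie.EC.Basic
import Cfsg.Agent.Lib.Char.IsolatedBase
import Cfsg.Agent.Lib.Char.BlockLink
import Cfsg.Agent.Lib.Char.Linear

/-!
# Extremely closed abelian `p`-subgroups and the principal block
-/

set_option autoImplicit false
set_option linter.unusedSectionVars false

open scoped Pointwise ComplexConjugate
open Cfsg Cfsg.Agent.Char

namespace Cfsg.Agent.Lie.EC

universe u

variable {G : Type u} [Group G] [Fintype G] {p : ℕ} [Fact p.Prime] {M : Ideal AlgInt}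

open scoped Classical in
/-- The principal block, as a finset. -/
noncomputable def b0 (M : Ideal AlgInt) (G : Type u) [Group G] [Fintype G] :
    Finset (IrrCharacter G) := Finset.univ.filter (· ∈ principalBlock M G)

theorem mem_b0 {χ : IrrCharacter G} : χ ∈ b0 M G ↔ χ ∈ principalBlock M G := by
  classical
  simp [b0]

/-- The product of two columns of the principal block. -/
noncomputable def colIp (M : Ideal AlgInt) (x y : G) : ℂ :=
  ∑ χ ∈ b0 M G, (χ : G → ℂ) x * conj ((χ : G → ℂ) y)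

theorem conj_colIp (x y : G) : conj (colIp M x y) = colIp M y x := by
  simp only [colIp, map_sum, map_mul, Complex.conj_conj]
  exact Finset.sum_congr rfl fun χ _ => mul_comm _ _

theorem colIp_class (x y k : G) : colIp M (k * x * k⁻¹) y = colIp M x y :=
  Finset.sum_congr rfl fun χ _ => by
    rw [isClassFunction_character (irr_isCharacter χ.2) x k]

theorem colIp_class_right (x y k : G) : colIp M x (k * y * k⁻¹) = colIp M x y :=
  Finset.sum_congr rfl fun χ _ => by
    rw [isClassFunction_character (irr_isCharacter χ.2) y k]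

theorem orderOf_sing {c : G} (hc : ∃ k : ℕ, orderOf c = p ^ k) (hc1 : c ≠ 1) : p ∣ orderOf c := by
  obtain ⟨k, hk⟩ := hc
  rw [hk]
  refine dvd_pow_self p fun h => hc1 ?_
  rwa [h, pow_zero, orderOf_eq_one_iff] at hk

theorem colIp_regular (hM : IsPModular p M) {x c : G} (hx : ¬ p ∣ orderOf x)
    (hc : ∃ k : ℕ, orderOf c = p ^ k) (hc1 : c ≠ 1) : colIp M x c = 0 := by
  classical
  have h := weak_orthogonality hM (isPBlock_principalBlock (G := G) M) hx (orderOf_sing hc hc1)
  rwa [finsum_mem_irr] at h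

theorem colIp_nonconj (hM : IsPModular p M) {d c : G} (hd : ∃ k : ℕ, orderOf d = p ^ k)
    (hc : ∃ k : ℕ, orderOf c = p ^ k) (h : ¬ IsConj d c) : colIp M d c = 0 := by
  classical
  have hp := hM.1
  have h0 := sum_block_column_orth hM (isPBlock_principalBlock (G := G) M) (g := d) (h := c)
    ⟨1, mul_one d, Commute.one_right d, hd, by simp [hp.ne_one]⟩
    ⟨1, mul_one c, Commute.one_right c, hc, by simp [hp.ne_one]⟩ h
  rw [← h0]
  refine Finset.sum_congr ?_ fun χ _ => mul_comm _ _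
  ext χ
  simp [mem_b0]

/-- The norm of a column is the dimension of the principal block of the centralizer, a multiple of
the order of each of its `p`-subgroups. -/
theorem exists_colIp_self (hM : IsPModular p M) {c : G} (hc : ∃ k : ℕ, orderOf c = p ^ k)
    {R : Subgroup G} (hR : IsPGroup p R) (hRc : R ≤ Subgroup.centralizer ({c} : Set G)) :
    ∃ D : ℕ, colIp M c c = D ∧ Nat.card R ≤ D := by
  classical
  set C := Subgroup.centralizer ({c} : Set G) with hC
  haveI : Fintype C := Fintype.ofFinite _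
  have h := sum_block_section_orth hM (x := c) hc (isPBlock_principalBlock (G := G) M) 1 1
    (by simp [hM.1.ne_one]) (by simp [hM.1.ne_one])
  rw [principal_section_filter hM hc, Finset.sum_singleton] at h
  simp only [Subgroup.coe_one, mul_one] at h
  set S := Finset.univ.filter (fun ξ : IrrCharacter C => ξ ∈ principalBlock M C)
  set D := ∑ ξ ∈ S, deg (ξ : C → ℂ) * deg (ξ : C → ℂ) with hD
  have hcol : colIp M c c = D := by
    rw [colIp, hD]
    push_cast
    refine (Finset.sum_congr ?_ fun χ _ => mul_comm _ _).trans (h.trans ?_)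
    · ext χ; simp [mem_b0]
    · exact Finset.sum_congr rfl fun ξ _ => by
        rw [conj_char_one (irr_isCharacter ξ.2), char_one_eq_deg (irr_isCharacter ξ.2)]
  refine ⟨D, hcol, ?_⟩
  haveI : Fintype (R.subgroupOf C) := Fintype.ofFinite _
  set R' := R.subgroupOf C
  have hR' : IsPGroup p R' := hR.comap_subtype
  have hcard : Nat.card R' = Nat.card R := Nat.card_congr (Subgroup.subgroupOfEquivOfLe hRc).toEquiv
  have hm : ∀ ξ : IrrCharacter C, ∃ m : ℕ, ∑ r : R', (ξ : C → ℂ) r = (Nat.card R : ℂ) * m := by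
    intro ξ
    obtain ⟨m, hm⟩ := classInner_natCast (isCharacter_comp R'.subtype (irr_isCharacter ξ.2))
      (isCharacter_one (G := R'))
    refine ⟨m, ?_⟩
    rw [← hm, classInner, hcard, ← mul_assoc,
      mul_inv_cancel₀ (Nat.cast_ne_zero.mpr (Nat.card_pos (α := R)).ne'), one_mul]
    simp
  choose m hm using hm
  have hsing : ∀ r : R', r ≠ 1 → ∑ ξ ∈ S, (ξ : C → ℂ) r * conj ((ξ : C → ℂ) 1) = 0 := by
    intro r hr
    have h1 := colIp_regular hM (x := (1 : C)) (c := (r : C)) (by simp [hM.1.ne_one])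
      (ppower hR' r.2) (fun e => hr (Subtype.ext e))
    have h2 := congrArg conj h1
    rw [map_zero, conj_colIp, colIp] at h2
    rw [← h2]
    refine Finset.sum_congr ?_ fun χ _ => rfl
    ext χ; simp [S, mem_b0]
  have key : (Nat.card R : ℂ) * ∑ ξ ∈ S, (m ξ * deg (ξ : C → ℂ) : ℕ) = D := by
    rw [Nat.cast_sum, Finset.mul_sum]
    have e : ∀ ξ : IrrCharacter C, (Nat.card R : ℂ) * ((m ξ * deg (ξ : C → ℂ) : ℕ) : ℂ) =
        ∑ r : R', (ξ : C → ℂ) r * conj ((ξ : C → ℂ) 1) := by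
      intro ξ
      rw [← Finset.sum_mul, hm, conj_char_one (irr_isCharacter ξ.2),
        char_one_eq_deg (irr_isCharacter ξ.2)]
      push_cast
      ring
    rw [Finset.sum_congr rfl fun ξ _ => e ξ, Finset.sum_comm, Finset.sum_eq_single (1 : R')
      (fun r _ hr => hsing r hr) (by simp), hD]
    push_cast
    exact Finset.sum_congr rfl fun ξ _ => by
      rw [conj_char_one (irr_isCharacter ξ.2), char_one_eq_deg (irr_isCharacter ξ.2)]
  have key' : Nat.card R * ∑ ξ ∈ S, m ξ * deg (ξ : C → ℂ) = D := by exact_mod_cast key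
  have hDpos : 0 < D := by
    refine Finset.sum_pos (fun ξ _ => Nat.mul_pos (deg_pos ξ.2) (deg_pos ξ.2))
      ⟨⟨fun _ => 1, isIrrCharacter_one⟩, ?_⟩
    simp only [S, Finset.mem_filter, Finset.mem_univ, true_and]
    exact sameBlock_refl (pmod_prime hM) _
  rw [← key'] at hDpos ⊢
  exact Nat.le_mul_of_pos_right _ (Nat.pos_of_mul_pos_left hDpos)

/-- Principal block characters do not see the complements of pairs. -/
def ValOK (M : Ideal AlgInt) (p : ℕ) (H : Subgroup G) : Prop :=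
  ∀ χ ∈ b0 M G, ∀ c ∈ H, c ≠ 1 → ∀ Q : Subgroup G, H ≤ Subgroup.normalizer (Q : Set G) →
    ¬ p ∣ Nat.card Q → Q ⊓ Subgroup.normalizer (H : Set G) = ⊥ → ∀ w ∈ Q,
      (χ : G → ℂ) (c * w) = (χ : G → ℂ) c

theorem valOK_of_core (hM : IsPModular p M) {H : Subgroup G} (hH : Hyp p H)
    (hloc : ∀ c ∈ H, c ≠ 1 → ∀ Q : Subgroup G, H ≤ Subgroup.normalizer (Q : Set G) →
      ¬ p ∣ Nat.card Q → Q ⊓ Subgroup.normalizer (H : Set G) = ⊥ →
      ∀ r ∈ Q, ∀ hr : r ∈ Subgroup.centralizer ({c} : Set G),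
        (⟨r, hr⟩ : Subgroup.centralizer ({c} : Set G)) ∈
          Cfsg.pPrimeCore p (Subgroup.centralizer ({c} : Set G))) :
    ValOK M p H := by
  intro χ hχ c hc hc1 Q hQn hQ hQN w hw
  have hcp := ppower hH.pgroup hc
  obtain ⟨y, -, r, hr, hcr, e⟩ := exists_conj_coset hQ (hQn hc) hcp hw
  rw [e, isClassFunction_character (irr_isCharacter χ.2)]
  have hrC : r ∈ Subgroup.centralizer ({c} : Set G) :=
    Subgroup.mem_centralizer_singleton_iff.2 hcr.eq.symm
  have hO := hloc c hc hc1 Q hQn hQ hQN r hr hrC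
  have hN : ¬ p ∣ Nat.card (Cfsg.pPrimeCore p (Subgroup.centralizer ({c} : Set G))) :=
    (Fact.out : p.Prime).coprime_iff_not_dvd.1 (Fusion.card_pPrimeCore_coprime p _).symm
  have h1 := principal_section_const hM (x := c) hcp _ hN χ (mem_b0.1 hχ) 1 ⟨r, hrC⟩ hO
    (by simp [hM.1.ne_one])
    (by
      rw [mul_one, ← Subgroup.orderOf_coe]
      exact coprime_orderOf hQ hr)
  simpa using h1

/-- Conjugation by an element of the normalizer, on `H`. -/
noncomputable def conjH {H : Subgroup G} (n : Subgroup.normalizer (H : Set G)) : H ≃ H where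
  toFun b := ⟨(n : G) * b * (n : G)⁻¹, (Subgroup.mem_normalizer_iff.1 n.2 _).1 b.2⟩
  invFun b := ⟨(n : G)⁻¹ * b * (n : G)⁻¹⁻¹, (Subgroup.mem_normalizer_iff.1 (inv_mem n.2) _).1 b.2⟩
  left_inv b := Subtype.ext (by simp [mul_assoc])
  right_inv b := Subtype.ext (by simp [mul_assoc])

@[simp] theorem conjH_coe {H : Subgroup G} (n : Subgroup.normalizer (H : Set G)) (b : H) :
    ((conjH n b : H) : G) = (n : G) * b * (n : G)⁻¹ := rfl

theorem conjH_mul {H : Subgroup G} (n : Subgroup.normalizer (H : Set G)) (a b : H) :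
    conjH n (a * b) = conjH n a * conjH n b := Subtype.ext (by simp [mul_assoc])

theorem conjH_conjH {H : Subgroup G} (m n : Subgroup.normalizer (H : Set G)) (b : H) :
    conjH m (conjH n b) = conjH (m * n) b := Subtype.ext (by simp [mul_assoc])

/-- The column product at a product with a conjugate. -/
theorem colIp_pair (hM : IsPModular p M) {H : Subgroup G} (hH : Hyp p H) (hv : ValOK M p H)
    {c : G} (hc : c ∈ H) (hc1 : c ≠ 1) (g : G) :
    ∃ n : Subgroup.normalizer (H : Set G), ∀ a b : H,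
      colIp M ((a : G) * (g * b * g⁻¹)) c = colIp M (((a * conjH n b : H)) : G) c := by
  obtain ⟨Q, hQn, hQp, -, -, hQN, x, hx, hn⟩ := hH.exists_core g
  refine ⟨⟨x⁻¹ * g, hn⟩, fun a b => ?_⟩
  set b' := conjH ⟨x⁻¹ * g, hn⟩ b with hb'
  have hw : (b' : G)⁻¹ * x * (b' : G)⁻¹⁻¹ * x⁻¹ ∈ Q :=
    Q.mul_mem ((Subgroup.mem_normalizer_iff.1 (hQn (inv_mem b'.2)) x).1 hx) (inv_mem hx)
  have e : (a : G) * (g * b * g⁻¹) = ((a * b' : H) : G) * ((b' : G)⁻¹ * x * (b' : G)⁻¹⁻¹ * x⁻¹) := by
    simp [hb', mul_assoc]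
  rw [e]
  by_cases h0 : ((a * b' : H) : G) = 1
  · rw [h0, one_mul, colIp_regular hM (coprime_orderOf hQp hw) (ppower hH.pgroup hc) hc1,
      colIp_regular hM (by simp [hM.1.ne_one]) (ppower hH.pgroup hc) hc1]
  · exact Finset.sum_congr rfl fun χ hχ => by
      rw [hv χ hχ _ (a * b').2 h0 Q hQn hQp hQN _ hw]

open scoped Classical in
/-- The `N(H)`-orbit of `c` in `H`. -/
noncomputable def orb (H : Subgroup G) [Fintype H] (c : G) : Finset H :=
  Finset.univ.filter fun d => ∃ n : Subgroup.normalizer (H : Set G), (n : G) * c * (n : G)⁻¹ = d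

theorem mem_orb {H : Subgroup G} [Fintype H] {c : G} {d : H} :
    d ∈ orb H c ↔ ∃ n : Subgroup.normalizer (H : Set G), (n : G) * c * (n : G)⁻¹ = d := by
  classical
  simp [orb]

theorem conjH_mem_orb {H : Subgroup G} [Fintype H] {c : G} {d : H}
    (n : Subgroup.normalizer (H : Set G)) (hd : d ∈ orb H c) : conjH n d ∈ orb H c := by
  obtain ⟨m, hm⟩ := mem_orb.1 hd
  exact mem_orb.2 ⟨n * m, by rw [conjH_coe, ← hm]; simp [mul_assoc]⟩

theorem sum_orb_conjH {H : Subgroup G} [Fintype H] {c : G} (n : Subgroup.normalizer (H : Set G))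
    (f : H → ℂ) : ∑ d ∈ orb H c, f (conjH n d) = ∑ d ∈ orb H c, f d := by
  refine Finset.sum_equiv (conjH n) (fun d => ⟨conjH_mem_orb n, fun h => ?_⟩) fun _ _ => rfl
  have h' := conjH_mem_orb n⁻¹ h
  rwa [conjH_conjH, inv_mul_cancel, show conjH (1 : Subgroup.normalizer (H : Set G)) d = d from
    Subtype.ext (by simp)] at h'

theorem colIp_orb (hM : IsPModular p M) {H : Subgroup G} [Fintype H] (hH : Hyp p H) {c : G}
    (hc : c ∈ H) (d : H) [Decidable (d ∈ orb H c)] :
    colIp M (d : G) c = if d ∈ orb H c then colIp M c c else 0 := by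
  split_ifs with h
  · obtain ⟨n, hn⟩ := mem_orb.1 h
    rw [← hn, colIp_class]
  · refine colIp_nonconj hM (ppower hH.pgroup d.2) (ppower hH.pgroup hc) fun hcon => h ?_
    obtain ⟨g, hg⟩ := isConj_iff.1 hcon.symm
    obtain ⟨n, hn, e⟩ := hH.fusion hc (hg ▸ d.2)
    exact mem_orb.2 ⟨⟨n, hn⟩, e.trans hg⟩

/-- Averaging the products with the conjugates of `H`, against an invariant function. -/
theorem colIp_average (hM : IsPModular p M) {H : Subgroup G} [Fintype H] (hH : Hyp p H)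
    (hv : ValOK M p H) (φ : H → ℂ) (hφ : ∀ n b, φ (conjH n b) = φ b) {c : G} (hc : c ∈ H)
    (hc1 : c ≠ 1) (a : H) :
    ∑ χ ∈ b0 M G, (∑ b : H, φ b * (χ : G → ℂ) b) / (χ : G → ℂ) 1 *
        ((χ : G → ℂ) a * conj ((χ : G → ℂ) c)) =
      colIp M c c * ∑ d ∈ orb H c, φ (a⁻¹ * d) := by
  classical
  have hG : (Nat.card G : ℂ) ≠ 0 := Nat.cast_ne_zero.mpr Nat.card_pos.ne'
  refine mul_left_cancel₀ hG ?_
  have hL : ∀ χ : IrrCharacter G, (Nat.card G : ℂ) * ((∑ b : H, φ b * (χ : G → ℂ) b) / (χ : G → ℂ) 1 *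
      ((χ : G → ℂ) a * conj ((χ : G → ℂ) c))) =
      ∑ g : G, ∑ b : H, φ b * ((χ : G → ℂ) ((a : G) * (g * b * g⁻¹)) * conj ((χ : G → ℂ) c)) := by
    intro χ
    rw [Finset.sum_comm, Finset.sum_div, Finset.sum_mul, Finset.mul_sum]
    refine Finset.sum_congr rfl fun b _ => ?_
    rw [← Finset.mul_sum, ← Finset.sum_mul]
    have h := sum_conj_mul χ.2 (a : G) (b : G)
    have hne := irr_one_ne_zero χ.2
    field_simp
    linear_combination (-(φ b) * conj ((χ : G → ℂ) c)) * h
  rw [Finset.mul_sum, Finset.sum_congr rfl fun χ _ => hL χ, Finset.sum_comm]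
  have hg : ∀ g : G, ∑ χ ∈ b0 M G, ∑ b : H,
      φ b * ((χ : G → ℂ) ((a : G) * (g * b * g⁻¹)) * conj ((χ : G → ℂ) c)) =
      colIp M c c * ∑ d ∈ orb H c, φ (a⁻¹ * d) := by
    intro g
    obtain ⟨n, hn⟩ := colIp_pair hM hH hv hc hc1 g
    rw [Finset.sum_comm]
    have h1 : ∀ b : H, ∑ χ ∈ b0 M G,
        φ b * ((χ : G → ℂ) ((a : G) * (g * b * g⁻¹)) * conj ((χ : G → ℂ) c)) =
        φ (conjH n b) * colIp M ((a * conjH n b : H) : G) c := fun b => by
      rw [← Finset.mul_sum, hφ, ← hn a b, colIp]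
    rw [Finset.sum_congr rfl fun b _ => h1 b,
      Equiv.sum_comp (conjH n) (fun b => φ b * colIp M ((a * b : H) : G) c),
      ← Equiv.sum_comp (Equiv.mulLeft a⁻¹) (fun b => φ b * colIp M ((a * b : H) : G) c)]
    simp only [Equiv.coe_mulLeft, mul_inv_cancel_left, colIp_orb hM hH hc, mul_ite, mul_zero]
    rw [← Finset.sum_filter, Finset.filter_mem_eq_inter, Finset.univ_inter, Finset.mul_sum]
    exact Finset.sum_congr rfl fun d _ => mul_comm _ _
  rw [Finset.sum_congr rfl fun g _ => hg g, Finset.sum_const, Finset.card_univ, nsmul_eq_mul,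
    Nat.card_eq_fintype_card]

end Cfsg.Agent.Lie.EC
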