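import Cfsg.Agent.Lib.Char.Basic
import Cfsg.Agent.Lib.Char.Ortho
import Mathlib.Analysis.Matrix.Order

/-!
# The overlap of the fixed spaces of two subgroups
-/

set_option autoImplicit false
set_option linter.unusedSectionVars false

open scoped ComplexConjugate MatrixOrder ComplexOrder Matrix
open Cfsg

namespace Cfsg.Agent.Lie.EC

universe u

variable {G : Type u} [Group G] [Fintype G] {n : ℕ}

/-- The matrix average over a subgroup. -/
noncomputable def avgMat (R : G →* Matrix (Fin n) (Fin n) ℂ) (A : Subgroup G) [Fintype A] :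
    Matrix (Fin n) (Fin n) ℂ := (Nat.card A : ℂ)⁻¹ • ∑ a : A, R a

theorem avgMat_absorb_left (R : G →* Matrix (Fin n) (Fin n) ℂ) {A L : Subgroup G} [Fintype A]
    [Fintype L] (h : A ≤ L) : avgMat R A * avgMat R L = avgMat R L := by
  have e : ∀ a : A, R a * ∑ l : L, R l = ∑ l : L, R l := fun a => by
    rw [Finset.mul_sum]
    refine Fintype.sum_equiv (Equiv.mulLeft (⟨a, h a.2⟩ : L)) _ _ fun l => ?_
    simp
  rw [avgMat, avgMat, smul_mul_smul_comm, Finset.sum_mul, Finset.sum_congr rfl fun a _ => e a,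
    Finset.sum_const, Finset.card_univ, ← Nat.cast_smul_eq_nsmul ℂ, smul_smul,
    ← Nat.card_eq_fintype_card, mul_right_comm,
    inv_mul_cancel₀ (Nat.cast_ne_zero.mpr Nat.card_pos.ne'), one_mul]

theorem avgMat_absorb_right (R : G →* Matrix (Fin n) (Fin n) ℂ) {A L : Subgroup G} [Fintype A]
    [Fintype L] (h : A ≤ L) : avgMat R L * avgMat R A = avgMat R L := by
  have e : ∀ a : A, (∑ l : L, R l) * R a = ∑ l : L, R l := fun a => by
    rw [Finset.sum_mul]
    refine Fintype.sum_equiv (Equiv.mulRight (⟨a, h a.2⟩ : L)) _ _ fun l => ?_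
    simp
  rw [avgMat, avgMat, smul_mul_smul_comm, Finset.mul_sum, Finset.sum_congr rfl fun a _ => e a,
    Finset.sum_const, Finset.card_univ, ← Nat.cast_smul_eq_nsmul ℂ, smul_smul,
    ← Nat.card_eq_fintype_card, mul_assoc,
    inv_mul_cancel₀ (Nat.cast_ne_zero.mpr Nat.card_pos.ne'), mul_one]

/-- An invariant positive definite form. -/
noncomputable def invForm (R : G →* Matrix (Fin n) (Fin n) ℂ) : Matrix (Fin n) (Fin n) ℂ :=
  ∑ g : G, (R g)ᴴ * R g

theorem invForm_mul (R : G →* Matrix (Fin n) (Fin n) ℂ) (a : G) :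
    invForm R * R a = (R a⁻¹)ᴴ * invForm R := by
  rw [invForm, Finset.sum_mul, Finset.mul_sum]
  refine Fintype.sum_equiv (Equiv.mulRight a) _ _ fun g => ?_
  rw [Equiv.coe_mulRight, ← mul_assoc, ← Matrix.conjTranspose_mul, ← map_mul, mul_inv_cancel_right,
    mul_assoc, ← map_mul]

theorem invForm_avgMat (R : G →* Matrix (Fin n) (Fin n) ℂ) (A : Subgroup G) [Fintype A] :
    invForm R * avgMat R A = (avgMat R A)ᴴ * invForm R := by
  rw [avgMat, Matrix.conjTranspose_smul, Matrix.conjTranspose_sum, star_inv₀, star_natCast,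
    mul_smul_comm, smul_mul_assoc, Finset.mul_sum, Finset.sum_mul]
  congr 1
  refine Fintype.sum_equiv (Equiv.inv A) _ _ fun a => ?_
  rw [invForm_mul]
  rfl

theorem invForm_posDef (R : G →* Matrix (Fin n) (Fin n) ℂ) : (invForm R).PosDef := by
  classical
  rw [invForm, ← Finset.add_sum_erase _ _ (Finset.mem_univ (1 : G)), map_one,
    Matrix.conjTranspose_one, one_mul]
  exact Matrix.PosDef.one.add_posSemidef
    (Matrix.posSemidef_sum _ fun g _ => Matrix.posSemidef_conjTranspose_mul_self _)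

theorem re_trace_nonneg_of_selfAdjoint {S E F : Matrix (Fin n) (Fin n) ℂ} (hS : S.PosDef)
    (hE : E * E = E) (hF : F * F = F) (hEs : S * E = Eᴴ * S) (hFs : S * F = Fᴴ * S) :
    0 ≤ (E * F).trace.re := by
  obtain ⟨B, hB⟩ := CStarAlgebra.nonneg_iff_eq_star_mul_self.1 hS.posSemidef.nonneg
  rw [Matrix.star_eq_conjTranspose] at hB
  have hBu : IsUnit B.det := by
    have h1 : IsUnit S.det := (Matrix.isUnit_iff_isUnit_det S).1 hS.isUnit
    rw [hB, Matrix.det_mul, IsUnit.mul_iff] at h1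
    exact h1.2
  have hBhu : IsUnit Bᴴ.det := by rw [Matrix.det_conjTranspose]; exact hBu.star
  set T := B * (E * F) * B⁻¹ with hT
  have hTT : T * Tᴴ = B * ((E * F) * (F * E)) * B⁻¹ := by
    have h1 : (E * F)ᴴ * S = S * (F * E) := by
      rw [Matrix.conjTranspose_mul, mul_assoc, ← hEs, ← mul_assoc, ← hFs, mul_assoc]
    rw [hB] at h1
    have h2 : B⁻¹ * Bᴴ⁻¹ * ((E * F)ᴴ * (Bᴴ * B)) = F * E := by
      rw [h1, ← mul_assoc,
        show B⁻¹ * Bᴴ⁻¹ * (Bᴴ * B) = B⁻¹ * (Bᴴ⁻¹ * Bᴴ) * B by simp only [mul_assoc],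
        Matrix.nonsing_inv_mul _ hBhu, mul_one, Matrix.nonsing_inv_mul _ hBu, one_mul]
    rw [← h2, hT, Matrix.conjTranspose_mul, Matrix.conjTranspose_mul, Matrix.conjTranspose_nonsing_inv]
    simp only [mul_assoc]
    rw [Matrix.mul_nonsing_inv _ hBu, mul_one]
  have htr : (T * Tᴴ).trace = (E * F).trace := by
    rw [hTT, Matrix.trace_mul_cycle, Matrix.nonsing_inv_mul _ hBu, one_mul]
    rw [show E * F * (F * E) = E * (F * F) * E by simp only [mul_assoc], hF,
      Matrix.trace_mul_cycle, hE]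
  rw [← htr, Matrix.trace]
  rw [Complex.re_sum]
  refine Finset.sum_nonneg fun i _ => ?_
  rw [Matrix.diag_apply, Matrix.mul_apply, Complex.re_sum]
  refine Finset.sum_nonneg fun j _ => ?_
  rw [Matrix.conjTranspose_apply, ← starRingEnd_apply, Complex.mul_conj, Complex.ofReal_re]
  exact Complex.normSq_nonneg _

/-- The fixed spaces of two subgroups of `L` overlap at least as much as the fixed space of `L`. -/
theorem overlap {χ : G → ℂ} (hχ : IsCharacter G χ) {A B L : Subgroup G} [Fintype A] [Fintype B]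
    [Fintype L] (hA : A ≤ L) (hB : B ≤ L) :
    ((Nat.card L : ℂ)⁻¹ * ∑ l : L, χ l).re ≤
      ((Nat.card A : ℂ)⁻¹ * (Nat.card B : ℂ)⁻¹ * ∑ a : A, ∑ b : B, χ ((a : G) * b)).re := by
  classical
  obtain ⟨n, ρ, rfl⟩ := hχ
  set R : G →* Matrix (Fin n) (Fin n) ℂ :=
    (LinearMap.toMatrixAlgEquiv' : Module.End ℂ (Fin n → ℂ) ≃ₐ[ℂ] _).toAlgHom.toRingHom.toMonoidHom.comp ρ
  have hR : ∀ g, (R g).trace = ρ.character g := fun g =>
    (LinearMap.trace_eq_matrix_trace ℂ (Pi.basisFun ℂ (Fin n)) (ρ g)).symm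
  have e1 : (avgMat R L).trace = (Nat.card L : ℂ)⁻¹ * ∑ l : L, ρ.character l := by
    simp only [avgMat, Matrix.trace_smul, Matrix.trace_sum, hR, smul_eq_mul]
  have e2 : (avgMat R A * avgMat R B).trace =
      (Nat.card A : ℂ)⁻¹ * (Nat.card B : ℂ)⁻¹ * ∑ a : A, ∑ b : B, ρ.character ((a : G) * b) := by
    simp only [avgMat, smul_mul_smul_comm, Finset.sum_mul, Finset.mul_sum, Matrix.trace_smul,
      Matrix.trace_sum, ← map_mul, hR, smul_eq_mul]
    exact Finset.sum_comm
  rw [← e1, ← e2]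
  have hl := avgMat_absorb_left R (le_refl L)
  have h := re_trace_nonneg_of_selfAdjoint (invForm_posDef R)
    (E := avgMat R A - avgMat R L) (F := avgMat R B - avgMat R L)
    (by simp only [sub_mul, mul_sub, avgMat_absorb_left R hA, avgMat_absorb_right R hA, hl,
          avgMat_absorb_left R (le_refl A)]; abel)
    (by simp only [sub_mul, mul_sub, avgMat_absorb_left R hB, avgMat_absorb_right R hB, hl,
          avgMat_absorb_left R (le_refl B)]; abel)
    (by rw [mul_sub, invForm_avgMat, invForm_avgMat, Matrix.conjTranspose_sub, sub_mul])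
    (by rw [mul_sub, invForm_avgMat, invForm_avgMat, Matrix.conjTranspose_sub, sub_mul])
  have e : ((avgMat R A - avgMat R L) * (avgMat R B - avgMat R L)) =
      avgMat R A * avgMat R B - avgMat R L := by
    simp only [sub_mul, mul_sub, avgMat_absorb_left R hA, avgMat_absorb_right R hB, hl]; abel
  rw [e, Matrix.trace_sub, Complex.sub_re] at h
  linarith

end Cfsg.Agent.Lie.EC
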