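import Cfsg.Agent.Lib.Lie.EC.Blocks
import Cfsg.Agent.Lib.Lie.EC.Overlap

/-!
# Extremely closed abelian `p`-subgroups: `N(H)` cannot be transitive on `H ∖ 1`
-/

set_option autoImplicit false
set_option linter.unusedSectionVars false

open scoped Pointwise ComplexConjugate
open Cfsg Cfsg.Agent.Char

namespace Cfsg.Agent.Lie.EC

universe u

variable {G : Type u} [Group G] [Fintype G] {p : ℕ} [Fact p.Prime] {M : Ideal AlgInt}
  {H : Subgroup G} [Fintype H]

/-- The sum of a character over a group `H ⊔ Q`. -/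
theorem sum_sup {Q : Subgroup G} [Fintype Q] [Fintype (H ⊔ Q : Subgroup G)]
    (hQn : H ≤ Subgroup.normalizer (Q : Set G)) (hHQ : H ⊓ Q = ⊥) (f : G → ℂ) :
    ∑ l : (H ⊔ Q : Subgroup G), f l = ∑ h : H, ∑ w : Q, f ((h : G) * w) := by
  rw [← Fintype.sum_prod_type']
  refine (Fintype.sum_bijective (fun hw : H × Q => (⟨(hw.1 : G) * hw.2,
    mul_mem (Subgroup.mem_sup_left hw.1.2) (Subgroup.mem_sup_right hw.2.2)⟩ : (H ⊔ Q : Subgroup G)))
    ⟨?_, ?_⟩ _ _ fun hw => rfl).symm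
  · intro x y hxy
    have e : (x.1 : G) * x.2 = y.1 * y.2 := congrArg Subtype.val hxy
    have h1 : (y.1 : G)⁻¹ * x.1 = y.2 * (x.2 : G)⁻¹ := by
      rw [eq_mul_inv_iff_mul_eq, mul_assoc, e, inv_mul_cancel_left]
    have h2 : (y.1 : G)⁻¹ * x.1 ∈ H ⊓ Q :=
      ⟨H.mul_mem (inv_mem y.1.2) x.1.2, h1 ▸ Q.mul_mem y.2.2 (inv_mem x.2.2)⟩
    rw [hHQ, Subgroup.mem_bot, inv_mul_eq_one] at h2
    rw [← h2] at e
    exact Prod.ext (Subtype.ext h2.symm) (Subtype.ext (mul_left_cancel e))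
  · rintro ⟨l, hl⟩
    have hl' : l ∈ (H : Set G) * (Q : Set G) := by
      rw [← Subgroup.coe_mul_of_left_le_normalizer_right H Q hQn]; exact hl
    obtain ⟨a, ha, q, hq, rfl⟩ := hl'
    exact ⟨(⟨a, ha⟩, ⟨q, hq⟩), rfl⟩

/-- The basic inequality for a principal character constant on `H ∖ 1`. -/
theorem value_bound (hH : Hyp p H) (hq2 : 1 < Nat.card H) (hv : ValOK M p H) {χ : IrrCharacter G} (hχ : χ ∈ b0 M G)
    {e : ℝ} (he : ∀ b : H, (b : G) ≠ 1 → (χ : G → ℂ) b = (e : ℂ)) :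
    (Nat.card H : ℝ) ^ 2 * e * deg (χ : G → ℂ) ≤
      ((deg (χ : G → ℂ) : ℝ) + ((Nat.card H : ℝ) - 1) * e) ^ 2 := by
  classical
  set q := (Nat.card H : ℝ) with hq
  set d := (deg (χ : G → ℂ) : ℝ) with hd
  have hq0 : (0 : ℝ) < q := Nat.cast_pos.2 Nat.card_pos
  have hχc := irr_isCharacter χ.2
  have hsumH : ∑ b : H, (χ : G → ℂ) b = ((d + (q - 1) * e : ℝ) : ℂ) := by
    rw [← Finset.add_sum_erase _ _ (Finset.mem_univ (1 : H)), Subgroup.coe_one,
      char_one_eq_deg hχc,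
      Finset.sum_congr rfl fun b hb => he b fun h => Finset.ne_of_mem_erase hb (Subtype.ext h),
      Finset.sum_const, Finset.card_erase_of_mem (Finset.mem_univ _), Finset.card_univ,
      nsmul_eq_mul, ← Nat.card_eq_fintype_card, Nat.cast_sub (Nat.card_pos (α := H)), hd, hq]
    push_cast
    ring
  have hg : ∀ g : G, q ^ 2 * e ≤ (∑ a : H, ∑ b : H, (χ : G → ℂ) ((a : G) * (g * b * g⁻¹))).re := by
    intro g
    obtain ⟨Q, hQn, hQp, hQL, hL, hQN, -⟩ := hH.exists_core g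
    haveI : Fintype Q := Fintype.ofFinite _
    haveI : Fintype (H ⊔ Q : Subgroup G) := Fintype.ofFinite _
    set B := H.map (MulAut.conj g).toMonoidHom with hB
    haveI : Fintype B := Fintype.ofFinite _
    have hHQ : H ⊓ Q = ⊥ := eq_bot_iff.2 fun x hx => hQN.le ⟨hx.2, Subgroup.le_normalizer hx.1⟩
    set t := (Nat.card Q : ℂ)⁻¹ * ∑ w : Q, (χ : G → ℂ) w with ht
    have hQ0 : (Nat.card Q : ℂ) ≠ 0 := Nat.cast_ne_zero.mpr Nat.card_pos.ne'
    have hH0 : (Nat.card H : ℂ) ≠ 0 := Nat.cast_ne_zero.mpr Nat.card_pos.ne'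
    have hcardL : (Nat.card (H ⊔ Q : Subgroup G) : ℂ) = Nat.card H * Nat.card Q := by
      have h := sum_sup hQn hHQ (fun _ => (1 : ℂ))
      simpa [Nat.card_eq_fintype_card] using h
    have havg : (Nat.card (H ⊔ Q : Subgroup G) : ℂ)⁻¹ * ∑ l : (H ⊔ Q : Subgroup G), (χ : G → ℂ) l =
        (((q - 1) * e : ℝ) : ℂ) / q + t / q := by
      rw [sum_sup hQn hHQ, ← Finset.add_sum_erase _ _ (Finset.mem_univ (1 : H)), hcardL]
      have e1 : ∀ h ∈ Finset.univ.erase (1 : H), ∑ w : Q, (χ : G → ℂ) ((h : G) * w) =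
          (Nat.card Q : ℂ) * e := fun h hh => by
        have h1 : (h : G) ≠ 1 := fun h' => Finset.ne_of_mem_erase hh (Subtype.ext h')
        rw [Finset.sum_congr rfl fun (w : Q) _ => (hv χ hχ h h.2 h1 Q hQn hQp hQN (w : G) w.2).trans (he h h1),
          Finset.sum_const, Finset.card_univ, nsmul_eq_mul, Nat.card_eq_fintype_card]
      rw [Finset.sum_congr rfl e1, Finset.sum_const, Finset.card_erase_of_mem (Finset.mem_univ _),
        Finset.card_univ, nsmul_eq_mul, ← Nat.card_eq_fintype_card,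
        Nat.cast_sub (Nat.card_pos (α := H)), Subgroup.coe_one, ht, hq]
      simp only [one_mul]
      push_cast
      field_simp
      ring
    have hre : ((Nat.card (H ⊔ Q : Subgroup G) : ℂ)⁻¹ *
        ∑ l : (H ⊔ Q : Subgroup G), (χ : G → ℂ) l).re = ((q - 1) * e + t.re) / q := by
      rw [havg, ← add_div, Complex.div_ofReal_re, Complex.add_re, Complex.ofReal_re]
    have hQQ := overlap hχc (A := Q) (B := Q) (L := H ⊔ Q) le_sup_right le_sup_right
    have hQQ' : (Nat.card Q : ℂ)⁻¹ * (Nat.card Q : ℂ)⁻¹ *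
        ∑ a : Q, ∑ b : Q, (χ : G → ℂ) ((a : G) * b) = t := by
      have : ∀ a : Q, ∑ b : Q, (χ : G → ℂ) ((a : G) * b) = ∑ w : Q, (χ : G → ℂ) w := fun a =>
        Fintype.sum_equiv (Equiv.mulLeft a) _ _ fun b => by simp
      rw [Finset.sum_congr rfl fun a _ => this a, Finset.sum_const, Finset.card_univ, nsmul_eq_mul,
        ← Nat.card_eq_fintype_card, ht]
      field_simp
    rw [hre, hQQ'] at hQQ
    have hHB := overlap hχc (A := H) (B := B) (L := H ⊔ Q) le_sup_left (hL ▸ le_sup_right)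
    have hBcard : Nat.card B = Nat.card H :=
      Subgroup.card_map_of_injective (f := (MulAut.conj g).toMonoidHom) (MulAut.conj g).injective
    have hsumB : ∀ a : H, ∑ b : B, (χ : G → ℂ) ((a : G) * b) =
        ∑ b : H, (χ : G → ℂ) ((a : G) * (g * b * g⁻¹)) := fun a =>
      (Fintype.sum_equiv (H.equivMapOfInjective (MulAut.conj g).toMonoidHom
        (MulAut.conj g).injective).toEquiv
        (fun b : H => (χ : G → ℂ) ((a : G) * (g * b * g⁻¹)))
        (fun b : B => (χ : G → ℂ) ((a : G) * b)) fun b => rfl).symm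
    rw [hre, hBcard, Finset.sum_congr rfl fun a _ => hsumB a,
      show (Nat.card H : ℂ)⁻¹ * (Nat.card H : ℂ)⁻¹ = (((q ^ 2)⁻¹ : ℝ) : ℂ) by rw [hq]; push_cast; ring,
      Complex.re_ofReal_mul] at hHB
    rw [div_le_iff₀ hq0] at hQQ hHB
    set X := (∑ a : H, ∑ b : H, (χ : G → ℂ) ((a : G) * (g * b * g⁻¹))).re
    have h1 : (q - 1) * (e - t.re) ≤ 0 := by nlinarith
    have h2 : q * e ≤ (q - 1) * e + t.re := by
      have : (1 : ℝ) < q := by rw [hq]; exact_mod_cast hq2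
      nlinarith
    have h3 : (q - 1) * e + t.re ≤ X / q := by
      refine hHB.trans (le_of_eq ?_)
      field_simp
    rw [le_div_iff₀ hq0] at h3
    nlinarith
  have htot := Finset.sum_le_sum fun g (_ : g ∈ (Finset.univ : Finset G)) => hg g
  rw [← Complex.re_sum, Finset.sum_comm] at htot
  simp only [Finset.sum_const, Finset.card_univ, nsmul_eq_mul] at htot
  have hS : ∑ a : H, ∑ g : G, ∑ b : H, (χ : G → ℂ) ((a : G) * (g * b * g⁻¹)) =
      (Nat.card G : ℂ) * ((∑ b : H, (χ : G → ℂ) b) * (∑ b : H, (χ : G → ℂ) b)) / (χ : G → ℂ) 1 := by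
    rw [eq_div_iff (irr_one_ne_zero χ.2), Finset.sum_mul_sum, Finset.mul_sum, Finset.sum_mul]
    refine Finset.sum_congr rfl fun a _ => ?_
    rw [Finset.sum_comm, Finset.mul_sum, Finset.sum_mul]
    refine Finset.sum_congr rfl fun b _ => ?_
    rw [mul_comm, sum_conj_mul χ.2, mul_assoc]
  rw [hS, hsumH, char_one_eq_deg hχc, ← Nat.card_eq_fintype_card,
    show ((Nat.card G : ℂ) * (((d + (q - 1) * e : ℝ) : ℂ) * ((d + (q - 1) * e : ℝ) : ℂ)) /
      (deg (χ : G → ℂ) : ℂ)) = (((Nat.card G : ℝ) * ((d + (q - 1) * e) ^ 2) / d : ℝ) : ℂ) by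
      rw [hd]; push_cast; ring,
    Complex.ofReal_re] at htot
  have hd0 : 0 < d := Nat.cast_pos.2 (deg_pos χ.2)
  rw [le_div_iff₀ hd0] at htot
  have hG0 : (0 : ℝ) < Nat.card G := Nat.cast_pos.2 Nat.card_pos
  nlinarith

/-- `N(H)` is not transitive on `H ∖ 1`. -/
theorem not_transitive (hM : IsPModular p M) (hH : Hyp p H) (hv : ValOK M p H) (hp : p ≠ 2)
    (hne : H ≠ ⊥) (hker : ∀ χ : IrrCharacter G, (∀ b : H, (χ : G → ℂ) b = (χ : G → ℂ) 1) →
      (χ : G → ℂ) = fun _ => 1) :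
    ∃ a c : H, (a : G) ≠ 1 ∧ (c : G) ≠ 1 ∧ a ∉ orb H (c : G) := by
  classical
  by_contra hno
  push Not at hno
  obtain ⟨c0, hc0, hc1⟩ := H.ne_bot_iff_exists_ne_one.1 hne |> fun ⟨x, hx⟩ =>
    (⟨(x : G), x.2, fun h => hx (Subtype.ext h)⟩ : ∃ c, c ∈ H ∧ c ≠ 1)
  set c : H := ⟨c0, hc0⟩
  have horb : orb H c0 = Finset.univ.erase (1 : H) := by
    ext d
    rw [Finset.mem_erase]
    refine ⟨fun h => ⟨fun h1 => ?_, Finset.mem_univ _⟩, fun h => hno d c (fun h' => h.1 (Subtype.ext h')) hc1⟩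
    obtain ⟨n, hn⟩ := mem_orb.1 h
    rw [h1, Subgroup.coe_one, conj_eq_one_iff] at hn
    exact hc1 hn
  have hconst : ∀ (χ : IrrCharacter G) (b : H), (b : G) ≠ 1 → (χ : G → ℂ) b = (χ : G → ℂ) c0 := by
    intro χ b hb
    obtain ⟨n, hn⟩ := mem_orb.1 (hno b c hb hc1)
    rw [← hn, isClassFunction_character (irr_isCharacter χ.2)]
  have hreal : ∀ χ : IrrCharacter G, (χ : G → ℂ) c0 = (((χ : G → ℂ) c0).re : ℂ) := fun χ => by
    refine (Complex.conj_eq_iff_re.1 ?_).symm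
    rw [← char_inv (irr_isCharacter χ.2)]
    exact hconst χ c⁻¹ (by simpa [c] using hc1)
  set q := (Nat.card H : ℝ) with hq
  have hq3 : 3 ≤ Nat.card H := by
    obtain ⟨k, hk⟩ := IsPGroup.iff_card.1 hH.pgroup
    have h3 : 3 ≤ p := by
      have := (Fact.out : p.Prime).two_le
      omega
    rcases k with - | k
    · exact absurd (Subgroup.eq_bot_of_card_eq H (by simpa using hk)) hne
    · rw [hk, pow_succ]
      exact h3.trans (Nat.le_mul_of_pos_left _ (pow_pos (by omega) _))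
  obtain ⟨D, hD, hqD⟩ := exists_colIp_self hM (ppower hH.pgroup hc0) hH.pgroup
    (fun x hx => Subgroup.mem_centralizer_singleton_iff.2 (hH.comm x hx c0 hc0))
  set E : IrrCharacter G → ℝ := fun χ => ((χ : G → ℂ) c0).re with hE
  set d : IrrCharacter G → ℝ := fun χ => (deg (χ : G → ℂ) : ℝ) with hd
  have hd0 : ∀ χ, 0 < d χ := fun χ => Nat.cast_pos.2 (deg_pos χ.2)
  have s1 : ∑ χ ∈ b0 M G, E χ * E χ = D := by
    have h : (((∑ χ ∈ b0 M G, E χ * E χ : ℝ)) : ℂ) = ((D : ℝ) : ℂ) := by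
      rw [Complex.ofReal_natCast, ← hD, colIp]
      push_cast
      refine Finset.sum_congr rfl fun χ _ => ?_
      rw [hreal χ, Complex.conj_ofReal]
    exact_mod_cast h
  have s2 : ∑ χ ∈ b0 M G, d χ * E χ = 0 := by
    have h : (((∑ χ ∈ b0 M G, d χ * E χ : ℝ)) : ℂ) = 0 := by
      rw [← colIp_regular hM (x := (1 : G)) (by simp [hM.1.ne_one]) (ppower hH.pgroup hc0) hc1, colIp]
      push_cast
      refine Finset.sum_congr rfl fun χ _ => ?_
      rw [hreal χ, Complex.conj_ofReal, char_one_eq_deg (irr_isCharacter χ.2)]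
      simp [d, E]
    exact_mod_cast h
  have s3 : ∑ χ ∈ b0 M G, (d χ + (q - 1) * E χ) / d χ * (E χ * E χ) = D * (q - 1) := by
    have h := colIp_average hM hH hv (fun _ => 1) (fun _ _ => rfl) hc0 hc1 c
    simp only [one_mul, hD, horb, Finset.sum_const, Finset.card_erase_of_mem (Finset.mem_univ _),
      Finset.card_univ, nsmul_eq_mul, mul_one] at h
    rw [← Nat.card_eq_fintype_card, Nat.cast_sub (Nat.card_pos (α := H))] at h
    have hs : ∀ χ : IrrCharacter G, ∑ b : H, (χ : G → ℂ) b = ((d χ + (q - 1) * E χ : ℝ) : ℂ) := by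
      intro χ
      rw [← Finset.add_sum_erase _ _ (Finset.mem_univ (1 : H)), Subgroup.coe_one,
        char_one_eq_deg (irr_isCharacter χ.2),
        Finset.sum_congr rfl fun b hb =>
          (hconst χ b fun h => Finset.ne_of_mem_erase hb (Subtype.ext h)).trans (hreal χ),
        Finset.sum_const, Finset.card_erase_of_mem (Finset.mem_univ _), Finset.card_univ,
        nsmul_eq_mul, ← Nat.card_eq_fintype_card, Nat.cast_sub (Nat.card_pos (α := H))]
      simp only [hd, hq, hE]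
      push_cast
      ring
    have h' : (((∑ χ ∈ b0 M G, (d χ + (q - 1) * E χ) / d χ * (E χ * E χ) : ℝ)) : ℂ) =
        ((D * (q - 1) : ℝ) : ℂ) := by
      push_cast at h ⊢
      rw [hq, Complex.ofReal_natCast, ← h]
      refine Finset.sum_congr rfl fun χ _ => ?_
      rw [hs χ, char_one_eq_deg (irr_isCharacter χ.2), hreal χ, Complex.conj_ofReal]
      simp only [hd, hq, hE]
      push_cast
      rfl
    exact_mod_cast h'
  set one : IrrCharacter G := ⟨fun _ => 1, isIrrCharacter_one⟩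
  have hone : one ∈ b0 M G := mem_b0.2 (sameBlock_refl (pmod_prime hM) _)
  have hE1 : E one = 1 := by simp [E, one]
  have hd1 : d one = 1 := by
    have h1 := char_one_eq_deg (irr_isCharacter one.2)
    have : deg (one : G → ℂ) = 1 := by
      have : ((deg (one : G → ℂ) : ℂ)) = 1 := h1.symm
      exact_mod_cast this
    simp [d, this]
  have hbound : ∀ χ ∈ (b0 M G).erase one, (q - 1) ^ 2 * E χ ≤ d χ := by
    intro χ hχ
    obtain ⟨hne1, hχ0⟩ := Finset.mem_erase.1 hχ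
    have hv' := value_bound hH (by omega) hv hχ0 (e := E χ) fun b hb => (hconst χ b hb).trans (hreal χ)
    have hlt : E χ < d χ := by
      refine lt_of_le_of_ne ?_ fun h => hne1 (Subtype.ext (hker χ fun b => ?_))
      · have := (Complex.re_le_norm _).trans (char_norm_le (irr_isCharacter χ.2) c0)
        rwa [char_one_eq_deg (irr_isCharacter χ.2), Complex.natCast_re] at this
      · by_cases hb : (b : G) = 1
        · rw [hb]
        · rw [hconst χ b hb, hreal χ, show ((χ : G → ℂ) c0).re = d χ from h,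
            char_one_eq_deg (irr_isCharacter χ.2)]
          simp [d]
    simp only [← hq] at hv'
    change q ^ 2 * E χ * d χ ≤ (d χ + (q - 1) * E χ) ^ 2 at hv'
    by_contra hc
    push Not at hc
    nlinarith [mul_pos (sub_pos.2 hlt) (sub_pos.2 hc)]
  have hq' : (3 : ℝ) ≤ q := by rw [hq]; exact_mod_cast hq3
  have hDq : q ≤ (D : ℝ) := by rw [hq]; exact_mod_cast hqD
  set S := (b0 M G).erase one with hS
  have t1 : ∑ χ ∈ S, E χ * E χ = D - 1 := by
    rw [← s1, ← Finset.add_sum_erase _ _ hone, hE1]; ring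
  have t3 : ∑ χ ∈ S, E χ * E χ * E χ / d χ = D * (q - 2) / (q - 1) - 1 := by
    have h : ∀ χ : IrrCharacter G, (d χ + (q - 1) * E χ) / d χ * (E χ * E χ) =
        E χ * E χ + (q - 1) * (E χ * E χ * E χ / d χ) := fun χ => by
      have := (hd0 χ).ne'
      field_simp
    rw [Finset.sum_congr rfl fun χ _ => h χ, Finset.sum_add_distrib, ← Finset.mul_sum, s1,
      ← Finset.add_sum_erase _ _ hone, hE1, hd1] at s3
    have hq1 : q - 1 ≠ 0 := by linarith
    rw [eq_sub_iff_add_eq, eq_div_iff hq1]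
    linear_combination s3
  have t4 : ∀ χ ∈ S, E χ * E χ * E χ / d χ ≤ E χ * E χ / (q - 1) ^ 2 := by
    intro χ hχ
    rw [div_le_div_iff₀ (hd0 χ) (by nlinarith)]
    nlinarith [hbound χ hχ, mul_self_nonneg (E χ)]
  have t5 := Finset.sum_le_sum t4
  rw [t3, ← Finset.sum_div, t1] at t5
  have hq1 : 0 < q - 1 := by linarith
  have t6 : (D : ℝ) * ((q - 1) * (q - 2) - 1) ≤ q * (q - 2) := by
    have e1 : (D * (q - 2) / (q - 1) - 1) * (q - 1) ^ 2 = D * (q - 2) * (q - 1) - (q - 1) ^ 2 := by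
      field_simp
    rw [le_div_iff₀ (by positivity), e1] at t5
    nlinarith
  have hq3' : Nat.card H = 3 := by
    by_contra h
    have : (5 : ℝ) ≤ q := by
      rw [hq]
      obtain ⟨k, hk⟩ := IsPGroup.iff_card.1 hH.pgroup
      have hodd : Odd (Nat.card H) := hk ▸ ((Fact.out : p.Prime).odd_of_ne_two hp).pow
      rw [Nat.odd_iff] at hodd
      exact_mod_cast (by omega : 5 ≤ Nat.card H)
    nlinarith [mul_le_mul_of_nonneg_right hDq (show (0 : ℝ) ≤ (q - 1) * (q - 2) - 1 by nlinarith)]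
  have hq3'' : q = 3 := by rw [hq, hq3']; norm_num
  rw [hq3''] at t6 hDq
  have hD3 : (D : ℝ) = 3 := by linarith
  have t7 : ∑ χ ∈ S, (E χ * E χ / (q - 1) ^ 2 - E χ * E χ * E χ / d χ) = 0 := by
    rw [Finset.sum_sub_distrib, ← Finset.sum_div, t1, t3, hq3'', hD3]
    norm_num
  have t8 := (Finset.sum_eq_zero_iff_of_nonneg fun χ hχ => sub_nonneg.2 (t4 χ hχ)).1 t7
  have t9 : ∀ χ ∈ S, 0 ≤ d χ * E χ := by
    intro χ hχ
    have h := t8 χ hχ
    rw [hq3''] at h
    have := (hd0 χ).ne'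
    field_simp at h
    by_contra hneg
    push Not at hneg
    nlinarith [hd0 χ]
  rw [← Finset.add_sum_erase _ _ hone, hE1, hd1] at s2
  linarith [Finset.sum_nonneg t9]

end Cfsg.Agent.Lie.EC
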