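import Cfsg.Agent.Lib.Lie.EC.NonTransitive
import Cfsg.Agent.Lib.Lie.EC.Transitive
import Cfsg.Agent.Lib.Char.Codegree

/-!
# Extremely closed abelian `p`-subgroups: `G = N(H) O_{p'}(G)`
-/

set_option autoImplicit false
set_option linter.unusedSectionVars false
set_option linter.style.haveILetI false

open scoped Pointwise commutatorElement
open Cfsg Cfsg.Agent.Char

namespace Cfsg.Agent.Lie.EC

universe u

variable {G : Type u} [Group G] [Finite G] {p : ℕ} [Fact p.Prime]

/-- The core of a normal subgroup lies in the core. -/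
theorem map_core_le (K : Subgroup G) [K.Normal] :
    (Cfsg.pPrimeCore p K).map K.subtype ≤ Cfsg.pPrimeCore p G := by
  have hn : ((Cfsg.pPrimeCore p K).map K.subtype).Normal := by
    constructor
    rintro _ ⟨k, hk, rfl⟩ g
    exact ⟨_, (Fusion.map_pPrimeCore_equiv (p := p) (MulAut.conjNormal g : MulAut K)).le
      (Subgroup.mem_map_of_mem _ hk), MulAut.conjNormal_apply g k⟩
  refine Fusion.le_pPrimeCore (hn := hn) ?_
  rw [Subgroup.card_map_of_injective K.subtype_injective]
  exact Fusion.card_pPrimeCore_coprime p K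

theorem eq_one_of_ppower_regular {x : G} (hx : ∃ k : ℕ, orderOf x = p ^ k) (hr : ¬ p ∣ orderOf x) :
    x = 1 := by
  haveI := Fintype.ofFinite G
  by_contra h
  exact hr (orderOf_sing hx h)

/-- `C_Q(c)` lies in the core of `C(c)` once `C(c)` factorizes. -/
theorem loc_of_factor {H : Subgroup G} (h : Hyp p H) {C : Subgroup G} (hHC : H ≤ C)
    (hT : Subgroup.normalizer ((H.subgroupOf C : Subgroup C) : Set C) ⊔ Cfsg.pPrimeCore p C = ⊤)
    {Q : Subgroup G} (hQn : H ≤ Subgroup.normalizer (Q : Set G)) (hQ : ¬ p ∣ Nat.card Q)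
    (hQN : Q ⊓ Subgroup.normalizer (H : Set G) = ⊥) :
    Q ⊓ C ≤ (Cfsg.pPrimeCore p C).map C.subtype := by
  set H' := H.subgroupOf C
  set O := Cfsg.pPrimeCore p C
  have hcomm : ⁅Q ⊓ C, H⁆ ≤ O.map C.subtype := by
    rw [Subgroup.commutator_le]
    intro k hk a ha
    set k' : C := ⟨k, hk.2⟩
    set a' : C := ⟨a, hHC ha⟩
    refine ⟨⁅k', a'⁆, ?_, rfl⟩
    show ⁅k', a'⁆ ∈ O
    have hk' : k' ∈ ((Subgroup.normalizer (H' : Set C) : Set C) * (O : Set C)) := by
      rw [← Subgroup.mul_normal, hT]; trivial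
    obtain ⟨n, hn, o, ho, e⟩ := hk'
    rw [← QuotientGroup.eq_one_iff]
    have e1 : (QuotientGroup.mk' O) ⁅k', a'⁆ = QuotientGroup.mk' O (⁅n, a'⁆) := by
      rw [map_commutatorElement, map_commutatorElement, ← e]
      congr 1
      show QuotientGroup.mk' O (n * o) = _
      rw [map_mul, show QuotientGroup.mk' O o = 1 from (QuotientGroup.eq_one_iff o).2 ho, mul_one]
    show QuotientGroup.mk' O ⁅k', a'⁆ = 1
    refine eq_one_of_ppower_regular (p := p) ?_ ?_
    · rw [e1]
      refine ppower (h.pgroup.comap_subtype.map (QuotientGroup.mk' O))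
        (Subgroup.mem_map_of_mem _ ?_)
      rw [commutatorElement_def]
      exact mul_mem ((Subgroup.mem_normalizer_iff.1 hn a').1 ha) (inv_mem ha)
    · intro hd
      have hmem : ⁅k, a⁆ ∈ Q := by
        rw [commutatorElement_def, show k * a * k⁻¹ * a⁻¹ = k * (a * k⁻¹ * a⁻¹) by group]
        exact Q.mul_mem hk.1 ((Subgroup.mem_normalizer_iff.1 (hQn ha) _).1 (inv_mem hk.1))
      have h2 : orderOf (⁅k', a'⁆ : C) = orderOf ⁅k, a⁆ := (Subgroup.orderOf_coe _).symm
      exact coprime_orderOf hQ hmem (h2 ▸ hd.trans (orderOf_map_dvd _ _))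
  have hHn : H ≤ Subgroup.normalizer ((Q ⊓ C : Subgroup G) : Set G) := fun x hx => by
    have hxC : x ∈ Subgroup.normalizer (C : Set G) := Subgroup.le_normalizer (hHC hx)
    exact Subgroup.mem_normalizer_iff.2 fun y =>
      ⟨fun hy => ⟨(Subgroup.mem_normalizer_iff.1 (hQn hx) y).1 hy.1,
          (Subgroup.mem_normalizer_iff.1 hxC y).1 hy.2⟩,
        fun hy => ⟨(Subgroup.mem_normalizer_iff.1 (hQn hx) y).2 hy.1,
          (Subgroup.mem_normalizer_iff.1 hxC y).2 hy.2⟩⟩
  intro r hr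
  obtain ⟨n, hn, z, hz, rfl⟩ := Solv.exists_commutator_mul_fixed hHn
    (coprime_card h.pgroup (not_dvd_of_le inf_le_left hQ)) (Or.inl h.isSolvable) hr
  have hz1 : z = 1 := by
    rw [← Subgroup.mem_bot, ← hQN]
    exact ⟨hz.1.1, Subgroup.centralizer_le_normalizer _ hz.2⟩
  rw [hz1, mul_one]
  exact hcomm hn

/-- Elements of `G` moving `H` into its normalizer normalize it. -/
theorem mem_normalizer_of_conj_le {H : Subgroup G} (h : Hyp p H) {g : G}
    (hg : ∀ a ∈ H, g * a * g⁻¹ ∈ Subgroup.normalizer (H : Set G)) :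
    g ∈ Subgroup.normalizer (H : Set G) := by
  refine Fusion.mem_normalizer_of_cj_le ?_
  rintro _ ⟨a, ha, rfl⟩
  exact (h.closed g).le ⟨Subgroup.mem_sup_right ⟨a, ha, rfl⟩, hg a ha⟩

/-- A central `p`-element of `H` is harmless. -/
theorem factor_of_central {H : Subgroup G} (h : Hyp p H) {c : G} (hc : c ∈ H)
    (hcen : ∀ x : G, Commute c x) [(Subgroup.zpowers c).Normal]
    (hT : Subgroup.normalizer ((H.map (QuotientGroup.mk' (Subgroup.zpowers c)) : Subgroup _) :
      Set (G ⧸ Subgroup.zpowers c)) ⊔ Cfsg.pPrimeCore p (G ⧸ Subgroup.zpowers c) = ⊤) :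
    Subgroup.normalizer (H : Set G) ⊔ Cfsg.pPrimeCore p G = ⊤ := by
  set Z := Subgroup.zpowers c with hZ
  set f := QuotientGroup.mk' Z
  have hZH : Z ≤ H := Subgroup.zpowers_le.2 hc
  set K := (Cfsg.pPrimeCore p (G ⧸ Z)).comap f with hK
  haveI : K.Normal := inferInstance
  have hZK : Z ≤ K := fun a ha => by
    simp [hK, f, (QuotientGroup.eq_one_iff a).2 ha]
  set Z' := Z.subgroupOf K
  haveI : Z'.Normal := Subgroup.Normal.comap ‹Z.Normal› _
  have hidx : Z'.index = Nat.card (Cfsg.pPrimeCore p (G ⧸ Z)) := by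
    have h2 := Subgroup.relIndex_ker (f := f) (K := K)
    rwa [QuotientGroup.ker_mk', Subgroup.map_comap_eq_self_of_surjective
      (QuotientGroup.mk'_surjective Z)] at h2
  have hpc : ¬ p ∣ Z'.index := by
    rw [hidx]
    exact (Fact.out : p.Prime).coprime_iff_not_dvd.1 (Fusion.card_pPrimeCore_coprime p _).symm
  have hcop : (Nat.card Z').Coprime Z'.index := by
    obtain ⟨n, hn⟩ := IsPGroup.iff_card.1 ((h.pgroup.to_le hZH).comap_subtype (K := K))
    rw [show Nat.card Z' = p ^ n from hn]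
    exact Nat.Coprime.pow_left n ((Fact.out : p.Prime).coprime_iff_not_dvd.2 hpc)
  obtain ⟨N, hN⟩ := Subgroup.exists_right_complement'_of_coprime hcop
  haveI hNn : N.Normal := by
    refine Subgroup.normalizer_eq_top_iff.mp (top_le_iff.mp (hN.sup_eq_top ▸ sup_le ?_ Subgroup.le_normalizer))
    intro a ha
    rw [Subgroup.mem_normalizer_iff]
    intro n
    have hca : ∀ b : K, a * b = b * a := fun b => by
      obtain ⟨k, hk⟩ := Subgroup.mem_zpowers_iff.mp (Subgroup.mem_subgroupOf.mp ha)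
      refine Subtype.ext ?_
      rw [Subgroup.coe_mul, Subgroup.coe_mul, ← hk]
      exact ((hcen b).zpow_left k).eq
    rw [hca n, mul_inv_cancel_right]
  have hNcard : (Nat.card N).Coprime p := by
    have h1 := hN.card_mul_card
    rw [← Z'.card_mul_index] at h1
    rw [Nat.eq_of_mul_eq_mul_left Nat.card_pos h1]
    exact ((Fact.out : p.Prime).coprime_iff_not_dvd.2 hpc).symm
  have hNle : N.map K.subtype ≤ Cfsg.pPrimeCore p G :=
    (Subgroup.map_mono (Fusion.le_pPrimeCore hNcard)).trans (map_core_le K)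
  refine eq_top_iff.2 fun g _ => ?_
  have hg : f g ∈ ((Subgroup.normalizer ((H.map f : Subgroup _) : Set (G ⧸ Z)) : Set (G ⧸ Z)) *
      (Cfsg.pPrimeCore p (G ⧸ Z) : Set (G ⧸ Z))) := by
    rw [← Subgroup.mul_normal, hT]; trivial
  obtain ⟨n', hn', o', ho', e⟩ := hg
  obtain ⟨n, rfl⟩ := QuotientGroup.mk'_surjective Z n'
  have hnN : n ∈ Subgroup.normalizer (H : Set G) := by
    refine Fusion.mem_normalizer_of_cj_le ?_
    rintro _ ⟨a, ha, rfl⟩
    obtain ⟨b, hb, hbe⟩ := (Subgroup.mem_normalizer_iff.1 hn' _).1 (Subgroup.mem_map_of_mem f ha)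
    have : b⁻¹ * (n * a * n⁻¹) ∈ Z := by
      rw [← QuotientGroup.eq_one_iff]
      show f (b⁻¹ * (n * a * n⁻¹)) = 1
      rw [map_mul, map_inv, hbe, ← map_inv, map_mul, map_mul, inv_mul_cancel]
    have := H.mul_mem hb (hZH this)
    rwa [mul_inv_cancel_left] at this
  have hK' : n⁻¹ * g ∈ K := by
    show f (n⁻¹ * g) ∈ Cfsg.pPrimeCore p (G ⧸ Z)
    have e' : f n * o' = f g := e
    rwa [map_mul, map_inv, ← e', inv_mul_cancel_left]
  have hmem : (⟨_, hK'⟩ : K) ∈ ((Z' : Set K) * (N : Set K)) := by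
    rw [hN.mul_eq]; trivial
  obtain ⟨z, hz, m, hm, e2⟩ := hmem
  have e3 : (z : G) * (m : G) = n⁻¹ * g := congrArg Subtype.val e2
  rw [show g = n * ((z : G) * (m : G)) by rw [e3, mul_inv_cancel_left]]
  exact mul_mem (Subgroup.mem_sup_left hnN) (mul_mem
    (Subgroup.mem_sup_left (Subgroup.le_normalizer (hZH hz)))
    (Subgroup.mem_sup_right (hNle ⟨m, hm, rfl⟩)))

/-- Modulo the core. -/
theorem factor_of_core {H : Subgroup G} (h : Hyp p H)
    (hT : Subgroup.normalizer ((H.map (QuotientGroup.mk' (Cfsg.pPrimeCore p G)) : Subgroup _) :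
      Set (G ⧸ Cfsg.pPrimeCore p G)) = ⊤) :
    Subgroup.normalizer (H : Set G) ⊔ Cfsg.pPrimeCore p G = ⊤ := by
  set O := Cfsg.pPrimeCore p G
  have hOn : O.Normal := inferInstance
  have hHO : H ≤ Subgroup.normalizer (O : Set G) := by
    rw [Subgroup.normalizer_eq_top]; exact le_top
  refine eq_top_iff.2 fun g _ => ?_
  have hle : MulAut.conj g • H ≤ O ⊔ H := by
    rw [Solv.conj_smul_eq_map]
    rintro _ ⟨a, ha, rfl⟩
    have hg : QuotientGroup.mk' O g ∈ Subgroup.normalizer ((H.map (QuotientGroup.mk' O) : Subgroup _) :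
        Set (G ⧸ O)) := hT ▸ Subgroup.mem_top _
    obtain ⟨b, hb, hbe⟩ := (Subgroup.mem_normalizer_iff.1 hg _).1 (Subgroup.mem_map_of_mem _ ha)
    have h1 : (g * a * g⁻¹) * b⁻¹ ∈ O := by
      rw [← QuotientGroup.eq_one_iff]
      show QuotientGroup.mk' O (g * a * g⁻¹ * b⁻¹) = 1
      rw [map_mul, map_inv, hbe, map_mul, map_mul, map_inv, mul_inv_cancel]
    show g * a * g⁻¹ ∈ O ⊔ H
    have h2 := mul_mem (Subgroup.mem_sup_left h1 : _ ∈ O ⊔ H) (Subgroup.mem_sup_right hb)
    rwa [inv_mul_cancel_right] at h2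
  obtain ⟨x, hx, hxe⟩ := Solv.sz_conj_rel O H (MulAut.conj g • H) hHO hle
    (coprime_card h.pgroup ((Fact.out : p.Prime).coprime_iff_not_dvd.1
      (Fusion.card_pPrimeCore_coprime p G).symm)).symm
    (Solv.card_conj_smul g H) (Or.inr h.isSolvable)
  have hn : x⁻¹ * g ∈ Subgroup.normalizer (H : Set G) := Solv.mem_normalizer_of_conj_smul (by
    rw [map_mul, mul_smul, ← hxe, ← mul_smul, ← map_mul, inv_mul_cancel, map_one, one_smul])
  rw [show g = x * (x⁻¹ * g) by group]
  exact mul_mem (Subgroup.mem_sup_right hx) (Subgroup.mem_sup_left hn)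

omit [Finite G] in
theorem factor_aux : ∀ (m : ℕ) (G : Type u) (_ : Group G) (_ : Finite G), Nat.card G = m → p ≠ 2 →
    ∀ H : Subgroup G, Hyp p H → Subgroup.normalizer (H : Set G) ⊔ Cfsg.pPrimeCore p G = ⊤ := by
  intro m
  induction m using Nat.strong_induction_on with
  | _ m ih =>
  intro G _ _ hm hp2 H h
  subst hm
  have hpp : p.Prime := Fact.out
  by_contra hgoal
  have hbot : H ≠ ⊥ := by
    rintro rfl
    exact hgoal (by rw [Subgroup.normalizer_eq_top]; simp)
  have hsub : ∀ U : Subgroup G, U ≠ ⊤ → H ≤ U →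
      Subgroup.normalizer ((H.subgroupOf U : Subgroup U) : Set U) ⊔ Cfsg.pPrimeCore p U = ⊤ := by
    intro U hU hHU
    exact ih _ (lt_of_le_of_ne (Subgroup.card_le_card_group U)
      fun e => hU ((Subgroup.card_eq_iff_eq_top U).1 e)) U inferInstance inferInstance rfl hp2 _
      (h.subgroup hHU)
  have hquo : ∀ (Z : Subgroup G) [Z.Normal], Z ≠ ⊥ →
      Subgroup.normalizer ((H.map (QuotientGroup.mk' Z) : Subgroup _) : Set (G ⧸ Z)) ⊔
        Cfsg.pPrimeCore p (G ⧸ Z) = ⊤ := by
    intro Z _ hZ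
    refine ih _ ?_ (G ⧸ Z) inferInstance inferInstance rfl hp2 _
      (h.map _ (QuotientGroup.mk'_surjective Z))
    rw [Subgroup.card_eq_card_quotient_mul_card_subgroup Z]
    have h1 : 1 < Nat.card Z := Z.one_lt_card_iff_ne_bot.2 hZ
    exact lt_mul_of_one_lt_right Nat.card_pos h1
  have hO : Cfsg.pPrimeCore p G = ⊥ := by
    by_contra hO
    have h1 := hquo _ hO
    rw [Fusion.pPrimeCore_quotient_eq_bot, sup_bot_eq] at h1
    exact hgoal (factor_of_core h h1)
  rw [hO, sup_bot_eq] at hgoal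
  have hcen : ∀ c ∈ H, c ≠ 1 → Subgroup.centralizer ({c} : Set G) ≠ ⊤ := by
    intro c hc hc1 htop
    have hc' : ∀ x : G, Commute c x := fun x =>
      (Subgroup.mem_centralizer_singleton_iff.1 (htop ▸ Subgroup.mem_top x)).symm
    haveI : (Subgroup.zpowers c).Normal := ⟨fun n hn g => by
      obtain ⟨k, rfl⟩ := Subgroup.mem_zpowers_iff.1 hn
      rw [← ((hc' g).zpow_left k).eq, mul_inv_cancel_right]
      exact Subgroup.zpow_mem _ (Subgroup.mem_zpowers c) k⟩
    have h1 := factor_of_central h hc hc' (hquo _ (by rwa [Ne, Subgroup.zpowers_eq_bot]))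
    rw [hO, sup_bot_eq] at h1
    exact hgoal h1
  have hM : Subgroup.normalClosure (H : Set G) = ⊤ := by
    by_contra hM
    set U := Subgroup.normalClosure (H : Set G)
    have hHU : H ≤ U := Subgroup.subset_normalClosure
    have h1 := hsub U hM hHU
    have hOU : Cfsg.pPrimeCore p U = ⊥ := by
      have h2 := (map_core_le (p := p) U).trans hO.le
      rw [Subgroup.map_le_iff_le_comap] at h2
      exact eq_bot_iff.2 fun k hk => Subtype.ext (h2 hk)
    rw [hOU, sup_bot_eq] at h1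
    refine hgoal (eq_top_iff.2 fun g _ => mem_normalizer_of_conj_le h fun a ha => ?_)
    have hga : g * a * g⁻¹ ∈ U := Subgroup.normalClosure_normal.conj_mem a (hHU ha) g
    refine Fusion.mem_normalizer_of_cj_le ?_
    rintro _ ⟨b, hb, rfl⟩
    exact (Subgroup.mem_normalizer_iff.1
      (h1 ▸ Subgroup.mem_top (⟨_, hga⟩ : U)) ⟨b, hHU hb⟩).1 hb
  letI := Fintype.ofFinite G
  letI : Fintype H := Fintype.ofFinite H
  letI : Fintype (Subgroup.normalizer (H : Set G)) := Fintype.ofFinite _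
  obtain ⟨M, hMod⟩ := exists_pModular hpp
  have hv : ValOK M p H := valOK_of_core hMod h fun c hc hc1 Q hQn hQ hQN r hr hrC => by
    obtain ⟨s, hs, e⟩ := loc_of_factor h
      (fun x hx => Subgroup.mem_centralizer_singleton_iff.2 (h.comm x hx c hc))
      (hsub _ (hcen c hc hc1) fun x hx => Subgroup.mem_centralizer_singleton_iff.2 (h.comm x hx c hc))
      hQn hQ hQN ⟨hr, hrC⟩
    exact (Subtype.ext e : s = ⟨r, hrC⟩) ▸ hs
  have hker : ∀ χ : IrrCharacter G, (∀ b : H, (χ : G → ℂ) b = (χ : G → ℂ) 1) →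
      (χ : G → ℂ) = fun _ => 1 := by
    intro χ hχ
    obtain ⟨K, hKn, hK⟩ := exists_charKernel (irr_isCharacter χ.2)
    haveI := hKn
    have htop : K = ⊤ := top_le_iff.1 (hM ▸ Subgroup.normalClosure_le_normal fun b hb => (hK b).2 (hχ ⟨b, hb⟩))
    by_contra hne
    have h1 := irr_orth χ.2 isIrrCharacter_one
    have hconst : ∀ g, (χ : G → ℂ) g = (χ : G → ℂ) 1 := fun g => (hK g).1 (htop ▸ Subgroup.mem_top g)
    rw [if_neg hne, classInner] at h1
    simp only [hconst, map_one, mul_one, Finset.sum_const, Finset.card_univ, nsmul_eq_mul,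
      mul_eq_zero, inv_eq_zero, Nat.cast_eq_zero] at h1
    rcases h1 with h1 | h1 | h1
    · exact Nat.card_pos.ne' h1
    · exact Fintype.card_ne_zero h1
    · exact irr_one_ne_zero χ.2 h1
  obtain ⟨hD, hfix, hlin⟩ := nontransitive_structure h
    (not_transitive hMod h hv hp2 hbot hker) hMod hv hker
  obtain ⟨P, hHP⟩ := h.pgroup.exists_le_sylow
  have hPH : (P : Subgroup G) = H := by
    by_contra hne
    have hlt := Fusion.SylIn.normalizer_growth hHP (Ne.symm hne) P.isPGroup'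
    obtain ⟨c, hc⟩ := H.ne_bot_iff_exists_ne_one.1 hbot
    have hc1 : (c : G) ≠ 1 := fun e => hc (Subtype.ext e)
    set R := (P : Subgroup G) ⊓ Subgroup.normalizer (H : Set G)
    have hRc : R ≤ Subgroup.centralizer ({(c : G)} : Set G) := fun x hx => by
      have h2 := congrArg Subtype.val (hfix ⟨x, hx.2⟩ c)
      rw [conjH_coe, mul_inv_eq_iff_eq_mul] at h2
      exact Subgroup.mem_centralizer_singleton_iff.2 h2
    obtain ⟨D, hD', hle⟩ := exists_colIp_self hMod (ppower h.pgroup c.2)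
      (P.isPGroup'.to_le inf_le_left) hRc
    rw [hD c hc1] at hD'
    have hlt' : Nat.card H < Nat.card R := Set.Finite.card_lt_card (Set.toFinite _) hlt
    have : Nat.card H = D := by exact_mod_cast hD'
    exact absurd hle (Nat.not_le.2 (this ▸ hlt'))
  have hcomH : ∀ x ∈ H, x ∈ commutator G → x = 1 := by
    intro x hx hxc
    by_contra hx1
    obtain ⟨l, hl⟩ := hlin ⟨x, hx⟩ hx1
    exact hl (Abelianization.commutator_subset_ker l hxc)
  have hp' : (Nat.card (commutator G)).Coprime p := by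
    refine (hpp.coprime_iff_not_dvd.2 fun hd => ?_).symm
    obtain ⟨x, hx⟩ := exists_prime_orderOf_dvd_card' p hd
    have hxp : IsPGroup p (Subgroup.zpowers (x : G)) := IsPGroup.of_card (n := 1) (by
      rw [Nat.card_zpowers, Subgroup.orderOf_coe, hx, pow_one])
    obtain ⟨S, hS⟩ := hxp.exists_le_sylow
    obtain ⟨g, hg⟩ := MulAction.exists_smul_eq G S P
    have hgx : g * x * g⁻¹ ∈ H := by
      rw [← hPH, ← hg]
      exact Subgroup.smul_mem_pointwise_smul _ (MulAut.conj g) _ (hS (Subgroup.mem_zpowers _))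
    have h1 := hcomH _ hgx ((inferInstance : (commutator G).Normal).conj_mem _ x.2 g)
    rw [conj_eq_one_iff] at h1
    rw [show x = 1 from Subtype.ext h1, orderOf_one] at hx
    exact hpp.ne_one hx.symm
  have hcom : commutator G = ⊥ := le_bot_iff.1 (hO ▸ Fusion.le_pPrimeCore hp')
  refine hgoal (eq_top_iff.2 fun g _ => mem_normalizer_of_conj_le h fun a ha => ?_)
  have h1 : ⁅g, a⁆ ∈ commutator G := by
    rw [commutator_def]
    exact Subgroup.commutator_mem_commutator (Subgroup.mem_top g) (Subgroup.mem_top a)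
  rw [hcom, Subgroup.mem_bot, commutatorElement_def, mul_inv_eq_one] at h1
  rw [h1]
  exact Subgroup.le_normalizer ha

/-- `G = N(H) O_{p'}(G)` for an extremely closed abelian `p`-subgroup, `p` odd. -/
theorem factor {H : Subgroup G} (h : Hyp p H) (hp : p ≠ 2) :
    Subgroup.normalizer (H : Set G) ⊔ Cfsg.pPrimeCore p G = ⊤ :=
  factor_aux _ G inferInstance inferInstance rfl hp H h

end Cfsg.Agent.Lie.EC
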