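import Cfsg.Agent.Lib.Lie.EC.FixedValues
import Cfsg.Agent.Lib.Lie.EC.Core
import Cfsg.Agent.Lib.Char.Coprime
import Cfsg.Agent.Lib.Char.PermLemma

/-!
# Extremely closed abelian `p`-subgroups: no fixed points in `[W, H]`
-/

set_option autoImplicit false
set_option linter.unusedSectionVars false
set_option linter.style.haveILetI false

open scoped Pointwise ComplexConjugate commutatorElement
open Cfsg Cfsg.Agent.Char

namespace Cfsg.Agent.Lie.EC

universe u

variable {G : Type u} [Group G] [Fintype G] {p : ℕ} [Fact p.Prime]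

/-- Values on `z r` do not depend on `r`. -/
theorem value_const {H W : Subgroup G} [Fintype W] [W.Normal] (hH : Hyp p H)
    (hWp : ¬ p ∣ Nat.card W) {h : G} (hh : h ∈ H) (hhp : orderOf h = p)
    (hfix : ⁅W ⊓ Subgroup.centralizer ({h} : Set G), H⁆ ⊓ Subgroup.centralizer (H : Set G) = ⊥)
    (χ : IrrCharacter G) (hθ : IsIrrCharacter W (fun w : W => (χ : G → ℂ) w))
    {z : G} (hz : z ∈ Subgroup.zpowers h) (hz1 : z ≠ 1) {r : G}
    (hr : r ∈ ⁅W ⊓ Subgroup.centralizer ({h} : Set G), H⁆) :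
    (χ : G → ℂ) (z * r) = (χ : G → ℂ) z := by
  classical
  have hpp : p.Prime := Fact.out
  set Z := Subgroup.zpowers h with hZdef
  set C := W ⊓ Subgroup.centralizer ({h} : Set G) with hCdef
  haveI : Fintype Z := Fintype.ofFinite Z
  haveI : Fintype C := Fintype.ofFinite C
  have hZH : Z ≤ H := Subgroup.zpowers_le.2 hh
  have hCcomm : ∀ (x : Z) (r : C), Commute (x : G) (r : G) := fun x r => by
    obtain ⟨k, hk⟩ := Subgroup.mem_zpowers_iff.1 x.2
    rw [← hk]
    exact Commute.zpow_left (Subgroup.mem_centralizer_singleton_iff.1 r.2.2).symm k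
  have hHC : H ≤ Subgroup.normalizer (C : Set G) := fun s hs => by
    have hsC : s ∈ Subgroup.normalizer ((Subgroup.centralizer ({h} : Set G) : Subgroup G) : Set G) :=
      Subgroup.le_normalizer (Subgroup.mem_centralizer_singleton_iff.2 (hH.comm s hs h hh))
    have hsW : s ∈ Subgroup.normalizer (W : Set G) := by
      rw [Subgroup.normalizer_eq_top]; trivial
    exact Subgroup.mem_normalizer_iff.2 fun y =>
      ⟨fun hy => ⟨(Subgroup.mem_normalizer_iff.1 hsW y).1 hy.1,
          (Subgroup.mem_normalizer_iff.1 hsC y).1 hy.2⟩,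
        fun hy => ⟨(Subgroup.mem_normalizer_iff.1 hsW y).2 hy.1,
          (Subgroup.mem_normalizer_iff.1 hsC y).2 hy.2⟩⟩
  have hχc := irr_isCharacter χ.2
  have hcl := isClassFunction_character hχc
  set fz : Z → C → ℂ := fun x r => (χ : G → ℂ) ((x : G) * r) with hfz
  have hfzc : ∀ x : Z, IsClassFunction C (fz x) := by
    intro x a k
    show (χ : G → ℂ) ((x : G) * ((k * a * k⁻¹ : C) : G)) = _
    rw [Subgroup.coe_mul, Subgroup.coe_mul, Subgroup.coe_inv, ← mul_assoc, ← mul_assoc,
      (hCcomm x k).eq, mul_assoc (k : G) (x : G), hcl]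
  set a : Z → IrrCharacter C → ℂ := fun x η => classInner (fz x) (η : C → ℂ) with ha
  set I : IrrCharacter C → ℝ :=
    fun η => ∑ x ∈ Finset.univ.erase (1 : Z), Complex.normSq (a x η) with hI
  have hint : ∀ η : IrrCharacter C, ∃ k : ℤ, I η = k := by
    intro η
    set π : Z × C →* G := MonoidHom.noncommCoprod Z.subtype C.subtype fun x r => hCcomm x r
    have hb : ∀ μ : IrrCharacter Z, ∃ m : ℕ,
        classInner (fun x : Z => a x η) (μ : Z → ℂ) = m := by
      intro μ
      obtain ⟨m, hm⟩ := classInner_natCast (isCharacter_comp π hχc)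
        (isCharacter_mul (isCharacter_comp (MonoidHom.fst Z C) (irr_isCharacter μ.2))
          (isCharacter_comp (MonoidHom.snd Z C) (irr_isCharacter η.2)))
      refine ⟨m, ?_⟩
      rw [← hm]
      simp only [classInner, Nat.card_prod, Nat.cast_mul, mul_inv, Fintype.sum_prod_type,
        Finset.mul_sum, Finset.sum_mul, Pi.mul_apply, map_mul, a, fz]
      refine Finset.sum_congr rfl fun x _ => Finset.sum_congr rfl fun r _ => ?_
      show _ = _ * ((χ : G → ℂ) ((x : G) * r) * (conj ((μ : Z → ℂ) x) * conj ((η : C → ℂ) r)))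
      ring
    choose b hb using hb
    obtain ⟨m1, hm1⟩ := classInner_natCast (isCharacter_comp C.subtype hχc) (irr_isCharacter η.2)
    have ha1 : a 1 η = m1 := by
      rw [← hm1, ha]
      simp only [hfz, Subgroup.coe_one, one_mul]
      rfl
    have hp' := parseval_classFun (K := Z) (f := fun x : Z => a x η) (fun x k => by
      rw [show k * x * k⁻¹ = x by
        rw [show k * x = x * k from Subtype.ext (hH.comm _ (hZH k.2) _ (hZH x.2)),
          mul_inv_cancel_right]])
    rw [classInner, inv_mul_eq_iff_eq_mul₀ (Nat.cast_ne_zero.mpr Nat.card_pos.ne'),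
      ← Finset.add_sum_erase _ _ (Finset.mem_univ (1 : Z))] at hp'
    simp only [Complex.mul_conj, hb] at hp'
    refine ⟨(Nat.card Z : ℤ) * ∑ μ, (b μ : ℤ) ^ 2 - (m1 : ℤ) ^ 2, ?_⟩
    apply Complex.ofReal_injective
    rw [hI]
    push_cast
    rw [ha1] at hp'
    simp only [Complex.normSq_natCast] at hp'
    push_cast at hp'
    simp only [pow_two]
    linear_combination hp'
  have hH1 : ∀ (η : IrrCharacter C) (s : H),
      I (irrComp (conjActHom C H (fun s hs g hg => (Subgroup.mem_normalizer_iff.1 (hHC hs) g).1 hg) s) η) = I η := by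
    intro η s
    set α := conjActHom C H (fun s hs g hg => (Subgroup.mem_normalizer_iff.1 (hHC hs) g).1 hg) s
    refine Finset.sum_congr rfl fun x _ => ?_
    congr 1
    simp only [ha, classInner, irrComp_apply]
    congr 1
    refine Fintype.sum_equiv α.toEquiv _ _ fun r => ?_
    congr 1
    show (χ : G → ℂ) ((x : G) * r) = (χ : G → ℂ) ((x : G) * ((α r : C) : G))
    rw [conjActHom_coe, ← hcl ((x : G) * r) (s : G)]
    congr 1
    rw [← mul_assoc, hH.comm _ s.2 _ (hZH x.2)]
    group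
  have hθsum : ∑ w : W, ‖(χ : G → ℂ) w‖ ^ 2 = (Nat.card W : ℝ) := FrobRam.sum_norm_sq_irr hθ
  have hsumI : ∑ η : IrrCharacter C, I η = (p : ℝ) - 1 := by
    have hcardZ : Nat.card Z = p := by rw [Nat.card_zpowers, hhp]
    have hW0 : (Nat.card W : ℝ) ≠ 0 := Nat.cast_ne_zero.mpr Nat.card_pos.ne'
    have hC0 : (Nat.card C : ℝ) ≠ 0 := Nat.cast_ne_zero.mpr Nat.card_pos.ne'
    have hpar : ∀ x : Z, ∑ η : IrrCharacter C, Complex.normSq (a x η) =
        (Nat.card C : ℝ)⁻¹ * ∑ r : C, ‖(χ : G → ℂ) ((x : G) * r)‖ ^ 2 := by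
      intro x
      have h1 := parseval_classFun (hfzc x)
      rw [FrobRam.classInner_self_sum, ← Complex.ofReal_sum] at h1
      exact (Complex.ofReal_injective h1).symm
    have hcoset : ∀ x ∈ Finset.univ.erase (1 : Z),
        ∑ r : C, ‖(χ : G → ℂ) ((x : G) * r)‖ ^ 2 =
          (Nat.card C : ℝ) / Nat.card W * ∑ w : W, ‖(χ : G → ℂ) ((x : G) * w)‖ ^ 2 := by
      intro x hx
      have hx1 : (x : G) ≠ 1 := fun e => Finset.ne_of_mem_erase hx (Subtype.ext e)
      have hxord : orderOf (x : G) = p := by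
        have := Subgroup.orderOf_dvd_natCard Z x.2
        rw [hcardZ] at this
        exact ((Nat.dvd_prime hpp).1 this).resolve_left (fun e => hx1 (orderOf_eq_one_iff.1 e))
      have hgen : Subgroup.zpowers (x : G) = Z := Subgroup.eq_of_le_of_card_ge
        (Subgroup.zpowers_le.2 x.2) (by rw [Nat.card_zpowers, Nat.card_zpowers, hxord, hhp])
      have hCx : C = W ⊓ Subgroup.centralizer ({(x : G)} : Set G) := by
        rw [hCdef, ← centralizer_zpowers_eq (x := h), ← centralizer_zpowers_eq (x := (x : G)), hgen]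
      have e := sum_coset (F := fun g => ((‖(χ : G → ℂ) g‖ ^ 2 : ℝ) : ℂ)) hWp
        (by rw [Subgroup.normalizer_eq_top]; trivial) (ppower hH.pgroup (hZH x.2))
        (fun g k => by simp only [hcl g k]) C hCx
      have e' : (Nat.card C : ℝ) * ∑ w : W, ‖(χ : G → ℂ) ((x : G) * w)‖ ^ 2 =
          (Nat.card W : ℝ) * ∑ r : C, ‖(χ : G → ℂ) ((x : G) * r)‖ ^ 2 := by exact_mod_cast e
      rw [div_mul_eq_mul_div, eq_div_iff hW0, e', mul_comm]
    set Y := Z ⊔ W
    haveI : Fintype Y := Fintype.ofFinite Y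
    have hYirr : IsIrrCharacter Y (fun y : Y => (χ : G → ℂ) y) :=
      isIrr_of_comp_irr (Subgroup.inclusion (le_sup_right : W ≤ Y)) (isCharacter_comp Y.subtype hχc) hθ
    have hZW : Z ⊓ W = ⊥ := Solv.coprime_inf
      (coprime_card (hH.pgroup.to_le hZH) hWp)
    have hYcard : (Nat.card Y : ℝ) = p * Nat.card W := by
      have h := sum_sup (H := Z) (Q := W) (by rw [Subgroup.normalizer_eq_top]; exact le_top) hZW
        (fun _ => (1 : ℂ))
      have h' : (Nat.card Y : ℂ) = (Nat.card Z : ℂ) * Nat.card W := by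
        simpa [Nat.card_eq_fintype_card] using h
      rw [hcardZ] at h'
      exact_mod_cast h'
    have hYsum := FrobRam.sum_norm_sq_irr hYirr
    have hY2 : ∑ y : Y, ‖(χ : G → ℂ) y‖ ^ 2 = ∑ x : Z, ∑ w : W, ‖(χ : G → ℂ) ((x : G) * w)‖ ^ 2 := by
      have h := sum_sup (H := Z) (Q := W) (by rw [Subgroup.normalizer_eq_top]; exact le_top) hZW
        (fun g => ((‖(χ : G → ℂ) g‖ ^ 2 : ℝ) : ℂ))
      exact_mod_cast h
    rw [hY2, hYcard, ← Finset.add_sum_erase _ _ (Finset.mem_univ (1 : Z))] at hYsum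
    simp only [Subgroup.coe_one, one_mul, hθsum] at hYsum
    simp only [hI]
    rw [Finset.sum_comm, Finset.sum_congr rfl fun x hx => by rw [hpar x, hcoset x hx],
      ← Finset.mul_sum, ← Finset.mul_sum]
    field_simp
    linarith
  have hnon : ∀ η : IrrCharacter C, (∃ x ∈ Finset.univ.erase (1 : Z), a x η ≠ 0) →
      ∀ s ∈ H, ∀ w w' : C, (w' : G) = s * w * s⁻¹ → (η : C → ℂ) w' = (η : C → ℂ) w := by
    intro η ⟨x, hx, hax⟩
    set φ := conjActHom C H (fun s hs g hg => (Subgroup.mem_normalizer_iff.1 (hHC hs) g).1 hg)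
    letI := irrAction φ
    have hI0 : ∀ ζ, 0 ≤ I ζ := fun ζ => Finset.sum_nonneg fun _ _ => Complex.normSq_nonneg _
    have hpos : 0 < I η := Finset.sum_pos' (fun _ _ => Complex.normSq_nonneg _)
      ⟨x, hx, Complex.normSq_pos.2 hax⟩
    have hge : ∀ ζ ∈ MulAction.orbit H η, 1 ≤ I ζ := by
      rintro _ ⟨s, rfl⟩
      show 1 ≤ I (irrComp (φ s⁻¹) η)
      rw [hH1]
      obtain ⟨k, hk⟩ := hint η
      rw [hk] at hpos ⊢
      exact_mod_cast (by exact_mod_cast hpos : (0 : ℤ) < k)
    have hfixed : ∀ s : H, irrComp (φ s⁻¹) η = η := by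
      obtain ⟨k, hk⟩ := hH.pgroup.card_orbit η
      by_contra hne
      push Not at hne
      obtain ⟨s, hs⟩ := hne
      have hk0 : k ≠ 0 := by
        rintro rfl
        rw [pow_zero, Nat.card_eq_one_iff_unique] at hk
        exact hs (congrArg Subtype.val (hk.1.elim ⟨_, MulAction.mem_orbit η s⟩
          ⟨η, MulAction.mem_orbit_self η⟩))
      have hcard : p ≤ (Finset.univ.filter (· ∈ MulAction.orbit H η)).card := by
        rw [← Fintype.card_subtype, ← Nat.card_eq_fintype_card]
        exact (Nat.le_self_pow hk0 p).trans hk.ge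
      have h1 : (p : ℝ) ≤ ∑ ζ ∈ Finset.univ.filter (· ∈ MulAction.orbit H η), I ζ := by
        refine le_trans (Nat.cast_le.2 hcard) ?_
        rw [Finset.cast_card]
        exact Finset.sum_le_sum fun ζ hζ => hge ζ (Finset.mem_filter.1 hζ).2
      have h2 := Finset.sum_le_sum_of_subset_of_nonneg (Finset.filter_subset
        (· ∈ MulAction.orbit H η) Finset.univ) (fun ζ _ _ => hI0 ζ)
      linarith [hsumI]
    intro s hs w w' e
    have := congrFun (congrArg Subtype.val (hfixed ⟨s, hs⟩⁻¹)) w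
    rw [inv_inv, irrComp_apply, show φ ⟨s, hs⟩ w = w' from Subtype.ext (e ▸ conjActHom_coe C H _ _ _)] at this
    exact this
  set x : Z := ⟨z, hz⟩
  have hx : x ∈ Finset.univ.erase (1 : Z) :=
    Finset.mem_erase.2 ⟨fun e => hz1 (congrArg Subtype.val e), Finset.mem_univ _⟩
  have hrC : r ∈ C := (Solv.commutator_normal_in hHC).1 hr
  have key : fz x ⟨r, hrC⟩ = fz x 1 := by
    rw [classFun_expansion (hfzc x)]
    simp only [Finset.sum_apply, Pi.smul_apply, smul_eq_mul]
    refine Finset.sum_congr rfl fun η _ => ?_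
    by_cases h0 : classInner (fz x) (η : C → ℂ) = 0
    · rw [h0, zero_mul, zero_mul]
    · rw [invariant_eq_one hH.pgroup hH.isSolvable hHC (not_dvd_of_le inf_le_left hWp) hfix η
        (hnon η ⟨x, hx, h0⟩) (k := ⟨r, hrC⟩) hr]
  simpa [fz, x] using key

end Cfsg.Agent.Lie.EC
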