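import Cfsg.Agent.Lib.Lie.EC.Transitive
import Cfsg.Agent.Lib.Char.Glauberman
import Cfsg.Agent.Lib.Char.GlaubermanCount
import Cfsg.Agent.Lib.Char.RelGlaubermanCentral
import Cfsg.Agent.Lib.Char.RestrictIrred
import Cfsg.Agent.Lib.Char.FrobRamified

/-!
# The values of an invariant extension on a coset of a coprime normal subgroup
-/

set_option autoImplicit false
set_option linter.unusedSectionVars false
set_option linter.style.haveILetI false

open scoped Pointwise ComplexConjugate commutatorElement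
open Cfsg Cfsg.Agent.Char

namespace Cfsg.Agent.Lie.EC

universe u

variable {G : Type u} [Group G] [Fintype G] {p : ℕ} [Fact p.Prime]

/-- Summing a class function over a coset through the centralizer. -/
theorem sum_coset {W : Subgroup G} [Fintype W] {z : G} (hW : ¬ p ∣ Nat.card W)
    (hz : z ∈ Subgroup.normalizer (W : Set G)) (hzp : ∃ k : ℕ, orderOf z = p ^ k)
    {F : G → ℂ} (hF : IsClassFunction G F) (C : Subgroup G) [Fintype C]
    (hC : C = W ⊓ Subgroup.centralizer ({z} : Set G)) :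
    (Nat.card C : ℂ) * ∑ w : W, F (z * w) = (Nat.card W : ℂ) * ∑ r : C, F (z * r) := by
  classical
  subst hC
  set C := W ⊓ Subgroup.centralizer ({z} : Set G)
  have hcomm : ∀ r : C, Commute z (r : G) := fun r =>
    (Subgroup.mem_centralizer_singleton_iff.1 r.2.2).symm
  let Φ : W × C → W := fun yr => ⟨z⁻¹ * ((yr.1 : G) * (z * (yr.2 : G)) * (yr.1 : G)⁻¹), by
    have hy : z⁻¹ * (yr.1 : G) * z⁻¹⁻¹ ∈ W :=
      (Subgroup.mem_normalizer_iff.1 (inv_mem hz) _).1 yr.1.2
    have := W.mul_mem (W.mul_mem hy yr.2.2.1) (inv_mem yr.1.2)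
    rwa [show z⁻¹ * (yr.1 : G) * z⁻¹⁻¹ * (yr.2 : G) * (yr.1 : G)⁻¹ =
      z⁻¹ * ((yr.1 : G) * (z * (yr.2 : G)) * (yr.1 : G)⁻¹) by group] at this⟩
  have hval : ∀ a : W × C, F (z * (Φ a : G)) = F (z * (a.2 : G)) := fun a => by
    show F (z * (z⁻¹ * ((a.1 : G) * (z * (a.2 : G)) * (a.1 : G)⁻¹))) = _
    rw [mul_inv_cancel_left, hF]
  have hfib : ∀ w : W, (Finset.univ.filter fun a => Φ a = w).card = Nat.card C := by
    intro w
    obtain ⟨y, hy, r, hr, hzr, he⟩ := exists_conj_coset hW hz hzp w.2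
    set r0 : C := ⟨r, hr, Subgroup.mem_centralizer_singleton_iff.2 hzr.eq.symm⟩
    rw [← Fintype.card_subtype, ← Nat.card_eq_fintype_card]
    refine Nat.card_congr ?_
    have hkey : ∀ a : {a : W × C // Φ a = w}, y⁻¹ * (a.1.1 : G) ∈ C := by
      rintro ⟨⟨y', r'⟩, ha⟩
      have e : (y' : G) * (z * (r' : G)) * (y' : G)⁻¹ = y * (z * r) * y⁻¹ := by
        rw [← he]
        have h1 : z⁻¹ * ((y' : G) * (z * (r' : G)) * (y' : G)⁻¹) = w := congrArg Subtype.val ha
        rw [← h1, mul_inv_cancel_left]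
      have e2 := congrArg (Char.ppt p) e
      rw [Char.ppt_conj Fact.out, Char.ppt_conj Fact.out,
        Char.ppt_mul Fact.out (hcomm r') hzp (coprime_orderOf hW r'.2.1),
        Char.ppt_mul Fact.out hzr hzp (coprime_orderOf hW hr)] at e2
      refine ⟨W.mul_mem (inv_mem hy) y'.2, Subgroup.mem_centralizer_singleton_iff.2 ?_⟩
      calc y⁻¹ * (y' : G) * z = y⁻¹ * ((y' : G) * z * (y' : G)⁻¹) * y' := by group
        _ = z * (y⁻¹ * y') := by rw [e2]; group
    refine
      { toFun := fun a => ⟨y⁻¹ * (a.1.1 : G), hkey a⟩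
        invFun := fun c => ⟨(⟨y * c, W.mul_mem hy c.2.1⟩, c⁻¹ * r0 * c), Subtype.ext ?_⟩
        left_inv := ?_
        right_inv := fun c => Subtype.ext (inv_mul_cancel_left _ _) }
    · show z⁻¹ * (y * (c : G) * (z * ((c : G)⁻¹ * r * (c : G))) * (y * (c : G))⁻¹) = w
      rw [show y * (c : G) * (z * ((c : G)⁻¹ * r * (c : G))) * (y * (c : G))⁻¹ =
          y * ((c : G) * z * (c : G)⁻¹ * r) * y⁻¹ by group, (hcomm c).symm.eq, mul_inv_cancel_right,
        ← he, inv_mul_cancel_left]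
    · rintro ⟨⟨y', r'⟩, ha⟩
      have h1 : z⁻¹ * ((y' : G) * (z * (r' : G)) * (y' : G)⁻¹) = w := congrArg Subtype.val ha
      have e : (y' : G) * (z * (r' : G)) * (y' : G)⁻¹ = y * (z * r) * y⁻¹ := by
        rw [← he, ← h1, mul_inv_cancel_left]
      set c : C := ⟨y⁻¹ * (y' : G), hkey ⟨(y', r'), ha⟩⟩
      refine Subtype.ext (Prod.ext (Subtype.ext (mul_inv_cancel_left _ _)) (Subtype.ext ?_))
      show (c : G)⁻¹ * r * (c : G) = r'
      refine mul_left_cancel (a := z) (Eq.symm ?_)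
      calc z * (r' : G) = (y' : G)⁻¹ * ((y' : G) * (z * r') * (y' : G)⁻¹) * y' := by group
        _ = (c : G)⁻¹ * (z * r) * c := by rw [e]; simp [c, mul_assoc]
        _ = (c : G)⁻¹ * z * r * c := by group
        _ = z * ((c : G)⁻¹ * r * c) := by rw [((hcomm c).inv_right).symm.eq]; group
  calc (Nat.card C : ℂ) * ∑ w : W, F (z * w)
      = ∑ w : W, ∑ a ∈ Finset.univ.filter (fun a => Φ a = w), F (z * (a.2 : G)) := by
        rw [Finset.mul_sum]
        refine Finset.sum_congr rfl fun w _ => ?_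
        have hs : ∀ a ∈ Finset.univ.filter (fun a => Φ a = w),
            F (z * (a.2 : G)) = F (z * (w : G)) := fun a ha => by
          rw [← (Finset.mem_filter.1 ha).2, hval]
        rw [Finset.sum_congr rfl hs, Finset.sum_const, hfib, nsmul_eq_mul]
    _ = ∑ a : W × C, F (z * (a.2 : G)) := Finset.sum_fiberwise _ _ _
    _ = _ := by
        simp only [Fintype.sum_prod_type, Finset.sum_const, Finset.card_univ, nsmul_eq_mul,
          Nat.card_eq_fintype_card]
        congr 1
        exact Finset.sum_congr (by ext; simp) fun _ _ => rfl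

/-- Invariant irreducible characters are trivial on the commutator with the acting group when that
commutator has no fixed points. -/
theorem invariant_eq_one {H W : Subgroup G} [Fintype W] (hH : IsPGroup p H)
    (hsol : Group.IsSolvable H) (hWn : H ≤ Subgroup.normalizer (W : Set G))
    (hWp : ¬ p ∣ Nat.card W) (hfix : ⁅W, H⁆ ⊓ Subgroup.centralizer (H : Set G) = ⊥)
    (η : IrrCharacter W)
    (hη : ∀ s ∈ H, ∀ w w' : W, (w' : G) = s * w * s⁻¹ → (η : W → ℂ) w' = (η : W → ℂ) w)
    {k : W} (hk : (k : G) ∈ ⁅W, H⁆) : (η : W → ℂ) k = (η : W → ℂ) 1 := by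
  classical
  obtain ⟨M, hM⟩ := exists_pModular (Fact.out : p.Prime)
  set φ : H →* MulAut W := conjActHom W H fun s hs g hg =>
    (Subgroup.mem_normalizer_iff.1 (hWn hs) g).1 hg
  set Z := W ⊓ Subgroup.centralizer (H : Set G) with hZ
  haveI : Fintype Z := Fintype.ofFinite Z
  set ι : Z →* W := Subgroup.inclusion inf_le_left
  have hh : CoprimeFix M p φ ι := by
    refine ⟨hM, hH, hWp, Subgroup.inclusion_injective _, fun g => ⟨?_, fun h => ?_⟩⟩
    · rintro ⟨c, rfl⟩ s
      refine Subtype.ext ?_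
      rw [conjActHom_coe]
      show (s : G) * (c : G) * (s : G)⁻¹ = c
      rw [Subgroup.mem_centralizer_iff.1 c.2.2 s s.2, mul_inv_cancel_right]
    · refine ⟨⟨g, g.2, Subgroup.mem_centralizer_iff.2 fun s hs => ?_⟩, rfl⟩
      have := congrArg Subtype.val (h ⟨s, hs⟩)
      rw [conjActHom_coe, mul_inv_eq_iff_eq_mul] at this
      exact this
  obtain ⟨hKle, hKn, hHK⟩ := Solv.commutator_normal_in hWn
  set K := (⁅W, H⁆).subgroupOf W with hKdef
  haveI : K.Normal := Subgroup.normal_subgroupOf_of_le_normalizer hKn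
  set Z' := Z.subgroupOf W
  have hco : (Nat.card H).Coprime (Nat.card W) := coprime_card hH hWp
  have hsurj : ∀ w : W, ∃ k ∈ K, ∃ c : Z, w = k * ι c := fun w => by
    obtain ⟨n, hn, c, hc, e⟩ := Solv.exists_commutator_mul_fixed hWn hco (Or.inl hsol) w.2
    exact ⟨⟨n, hKle hn⟩, hn, ⟨c, hc⟩, Subtype.ext e⟩
  have hinj : Function.Injective ((QuotientGroup.mk' K).comp ι) := by
    rw [injective_iff_map_eq_one]
    intro c hc
    have h1 : (c : G) ∈ ⁅W, H⁆ ⊓ Subgroup.centralizer (H : Set G) :=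
      ⟨(QuotientGroup.eq_one_iff (ι c)).1 hc, c.2.2⟩
    rw [hfix, Subgroup.mem_bot] at h1
    exact Subtype.ext h1
  have hsurj' : Function.Surjective ((QuotientGroup.mk' K).comp ι) := by
    intro x
    obtain ⟨w, rfl⟩ := QuotientGroup.mk'_surjective K x
    obtain ⟨k, hk, c, rfl⟩ := hsurj w
    refine ⟨c, ?_⟩
    show QuotientGroup.mk' K (ι c) = _
    rw [map_mul, show QuotientGroup.mk' K k = 1 from (QuotientGroup.eq_one_iff k).2 hk, one_mul]
  set e := MulEquiv.ofBijective _ ⟨hinj, hsurj'⟩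
  set π : W →* Z := e.symm.toMonoidHom.comp (QuotientGroup.mk' K)
  have hπι : ∀ c, π (ι c) = c := fun c => e.symm_apply_apply c
  have hπs : Function.Surjective π := fun c => ⟨ι c, hπι c⟩
  have hπinv : ∀ s w, π (φ s w) = π w := by
    intro s w
    show e.symm (QuotientGroup.mk' K (φ s w)) = e.symm (QuotientGroup.mk' K w)
    congr 1
    rw [QuotientGroup.mk'_eq_mk']
    refine ⟨(φ s w)⁻¹ * w, ?_, mul_inv_cancel_left _ _⟩
    show ((φ s w : W) : G)⁻¹ * (w : G) ∈ ⁅W, H⁆
    rw [conjActHom_coe]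
    have h1 : ⁅(w : G)⁻¹, (s : G)⁆ ∈ ⁅W, H⁆ :=
      Subgroup.commutator_mem_commutator (inv_mem w.2) s.2
    have h3 := inv_mem h1
    rw [commutatorElement_def] at h3
    convert h3 using 1
    group
  set Inv := {χ : IrrCharacter W // ∀ s g, (χ : W → ℂ) (φ s g) = (χ : W → ℂ) g}
  let f : IrrCharacter Z → Inv := fun β =>
    ⟨⟨fun w => (β : Z → ℂ) (π w), isIrr_comp_surjective π hπs β.2⟩,
      fun s g => show (β : Z → ℂ) (π (φ s g)) = (β : Z → ℂ) (π g) by rw [hπinv]⟩
  let g : IrrCharacter Z → Inv := fun β => ⟨hh.corr β, hh.corr_inv β⟩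
  have hg : Function.Bijective g :=
    ⟨fun a b h => hh.corr_injective (congrArg Subtype.val h),
      fun χ => (hh.corr_surjective χ.2).imp fun β h => Subtype.ext h⟩
  have hf : Function.Injective f := fun a b h => Subtype.ext (funext fun c => by
    obtain ⟨w, rfl⟩ := hπs c
    exact congrFun (congrArg (fun x : Inv => (x.1 : W → ℂ)) h) w)
  obtain ⟨β, hβ⟩ := (Finite.injective_iff_surjective.1 (hf.comp (Equiv.ofBijective g hg).symm.injective) :
    Function.Surjective (f ∘ (Equiv.ofBijective g hg).symm))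
    ⟨η, fun s g => hη s s.2 g _ (conjActHom_coe W H _ s g)⟩
  have hπk : π k = 1 := by
    show e.symm (QuotientGroup.mk' K k) = 1
    rw [show QuotientGroup.mk' K k = 1 from (QuotientGroup.eq_one_iff k).2 hk, map_one]
  have h1 : ∀ w, (η : W → ℂ) w = (((Equiv.ofBijective g hg).symm β : IrrCharacter Z) : Z → ℂ) (π w) :=
    fun w => (congrFun (congrArg (fun x : Inv => (x.1 : W → ℂ)) hβ) w).symm
  rw [h1, h1, hπk, map_one]

/-- Parseval. -/
theorem parseval_classFun {K : Type u} [Group K] [Fintype K] {f : K → ℂ}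
    (hf : IsClassFunction K f) :
    classInner f f = ∑ χ : IrrCharacter K,
      ((Complex.normSq (classInner f (χ : K → ℂ)) : ℝ) : ℂ) := by
  conv_lhs => arg 2; rw [classFun_expansion hf]
  rw [classInner_sum_right]
  exact Finset.sum_congr rfl fun χ _ => by rw [classInner_smul_right, ← Complex.mul_conj, mul_comm]

end Cfsg.Agent.Lie.EC
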