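import Cfsg.Agent.Lib.Lie.EC.CoprimeFixed

/-!
# Extremely closed abelian `p`-subgroups, `p` odd: the two conclusions
-/

set_option autoImplicit false
set_option linter.unusedSectionVars false
set_option linter.style.haveILetI false

open scoped Pointwise ComplexConjugate commutatorElement
open Cfsg Cfsg.Agent.Char

namespace Cfsg.Agent.Lie.EC

universe u

variable {G : Type u} [Group G] [Fintype G] {p : ℕ} [Fact p.Prime]

/-- On the coprime side of the product: values multiply along `⟨h⟩`. -/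
theorem value_mul {H W : Subgroup G} [Fintype W] [W.Normal] (hH : Hyp p H)
    (hWp : ¬ p ∣ Nat.card W) (htop : H ⊔ W = ⊤) {h : G} (hh : h ∈ H) (hhp : orderOf h = p)
    (hfix : ⁅W ⊓ Subgroup.centralizer ({h} : Set G), H⁆ ⊓ Subgroup.centralizer (H : Set G) = ⊥)
    (χ : IrrCharacter G) (hθ : IsIrrCharacter W (fun w : W => (χ : G → ℂ) w))
    {a b : G} (ha : a ∈ Subgroup.zpowers h) (hb : b ∈ Subgroup.zpowers h) (hab : a * b ≠ 1) :
    (χ : G → ℂ) 1 * (χ : G → ℂ) (a * b) = (χ : G → ℂ) a * (χ : G → ℂ) b := by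
  have hZH : Subgroup.zpowers h ≤ H := Subgroup.zpowers_le.2 hh
  have hab' : a * b ∈ Subgroup.zpowers h := mul_mem ha hb
  have hcab : ∀ x ∈ Subgroup.centralizer ({a * b} : Set G),
      x ∈ Subgroup.centralizer ({h} : Set G) := by
    intro x hx
    have hgen : Subgroup.zpowers (a * b) = Subgroup.zpowers h := by
      refine Subgroup.eq_of_le_of_card_ge (Subgroup.zpowers_le.2 hab') ?_
      rw [Nat.card_zpowers, Nat.card_zpowers, hhp]
      have h1 := Subgroup.orderOf_dvd_natCard _ hab'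
      rw [Nat.card_zpowers, hhp] at h1
      rcases (Nat.dvd_prime Fact.out).1 h1 with e | e
      · exact absurd (orderOf_eq_one_iff.1 e) hab
      · exact e.ge
    rwa [← centralizer_zpowers_eq, ← hgen, centralizer_zpowers_eq]
  have key : ∀ g : G, (χ : G → ℂ) (a * (g * b * g⁻¹)) = (χ : G → ℂ) (a * b) := by
    intro g
    obtain ⟨Q, hQn, hQp, -, -, hQN, x, hx, hn⟩ := hH.exists_core g
    have hQW : Q ≤ W := by
      intro q hq
      rw [← QuotientGroup.eq_one_iff]
      refine eq_one_of_ppower_regular (p := p) ?_ fun hd => coprime_orderOf hQp hq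
        (hd.trans (orderOf_map_dvd (QuotientGroup.mk' W) q))
      have : (QuotientGroup.mk' W) q ∈ H.map (QuotientGroup.mk' W) := by
        have h1 : (H ⊔ W).map (QuotientGroup.mk' W) = H.map (QuotientGroup.mk' W) := by
          rw [Subgroup.map_sup, QuotientGroup.map_mk'_self, sup_bot_eq]
        rw [← h1, htop]
        exact Subgroup.mem_map_of_mem _ (Subgroup.mem_top q)
      exact ppower (hH.pgroup.map _) this
    set n := x⁻¹ * g with hndef
    have hnb : n * b * n⁻¹ = b := by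
      have hnt : n ∈ (H : Set G) * (W : Set G) := by
        rw [← Subgroup.mul_normal, htop]; trivial
      obtain ⟨s, hs, w, hw, e⟩ := hnt
      have e' : s * w = n := e
      have hwN : w ∈ Subgroup.normalizer (H : Set G) := by
        have := mul_mem (inv_mem (Subgroup.le_normalizer hs)) hn
        rwa [← e', inv_mul_cancel_left] at this
      have hwC := Solv.centralizer_of_normalizes (A := H) (K := W)
        (by rw [Subgroup.normalizer_eq_top]; exact le_top)
        (Solv.coprime_inf (coprime_card hH.pgroup hWp).symm) hw hwN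
      rw [← e', show s * w * b * (s * w)⁻¹ = s * (w * b * w⁻¹) * s⁻¹ by group,
        ← Subgroup.mem_centralizer_iff.1 hwC b (hZH hb), mul_inv_cancel_right,
        hH.comm s hs b (hZH hb), mul_inv_cancel_right]
    have hw' : b⁻¹ * x * b⁻¹⁻¹ * x⁻¹ ∈ Q :=
      Q.mul_mem ((Subgroup.mem_normalizer_iff.1 (hQn (inv_mem (hZH hb))) x).1 hx) (inv_mem hx)
    have e : a * (g * b * g⁻¹) = a * b * (b⁻¹ * x * b⁻¹⁻¹ * x⁻¹) := by
      have : g * b * g⁻¹ = x * (n * b * n⁻¹) * x⁻¹ := by rw [hndef]; group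
      rw [this, hnb]
      group
    rw [e]
    obtain ⟨y, -, r, hr, hcr, e2⟩ :=
      exists_conj_coset hQp (hQn (hZH hab')) (ppower hH.pgroup (hZH hab')) hw'
    rw [e2, isClassFunction_character (irr_isCharacter χ.2)]
    refine value_const hH hWp hh hhp hfix χ hθ hab' hab ?_
    set C := Subgroup.centralizer ({h} : Set G)
    have hrC : r ∈ Q ⊓ C := ⟨hr, hcab r (Subgroup.mem_centralizer_singleton_iff.2 hcr.eq.symm)⟩
    have hHn : H ≤ Subgroup.normalizer ((Q ⊓ C : Subgroup G) : Set G) := fun s hs => by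
      have hsC : s ∈ Subgroup.normalizer (C : Set G) :=
        Subgroup.le_normalizer (Subgroup.mem_centralizer_singleton_iff.2 (hH.comm s hs h hh))
      exact Subgroup.mem_normalizer_iff.2 fun y =>
        ⟨fun hy => ⟨(Subgroup.mem_normalizer_iff.1 (hQn hs) y).1 hy.1,
            (Subgroup.mem_normalizer_iff.1 hsC y).1 hy.2⟩,
          fun hy => ⟨(Subgroup.mem_normalizer_iff.1 (hQn hs) y).2 hy.1,
            (Subgroup.mem_normalizer_iff.1 hsC y).2 hy.2⟩⟩
    obtain ⟨m, hm, c, hc, rfl⟩ := Solv.exists_commutator_mul_fixed hHn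
      (coprime_card hH.pgroup (not_dvd_of_le inf_le_left hQp)) (Or.inl hH.isSolvable) hrC
    have hc1 : c = 1 := by
      rw [← Subgroup.mem_bot, ← hQN]
      exact ⟨hc.1.1, Subgroup.centralizer_le_normalizer _ hc.2⟩
    rw [hc1, mul_one]
    exact Subgroup.commutator_mono (inf_le_inf_right C hQW) le_rfl hm
  have h1 := sum_conj_mul χ.2 a b
  rw [Finset.sum_congr rfl fun g _ => key g, Finset.sum_const, Finset.card_univ, nsmul_eq_mul,
    ← Nat.card_eq_fintype_card] at h1
  refine mul_left_cancel₀ (Nat.cast_ne_zero.mpr (Nat.card_pos (α := G)).ne' : (Nat.card G : ℂ) ≠ 0) ?_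
  linear_combination h1

/-- `h` acts as a scalar. -/
theorem value_commutator {H W : Subgroup G} [Fintype W] [W.Normal] (hH : Hyp p H) (hp2 : p ≠ 2)
    (hWp : ¬ p ∣ Nat.card W) (htop : H ⊔ W = ⊤) {h : G} (hh : h ∈ H) (hhp : orderOf h = p)
    (hfix : ⁅W ⊓ Subgroup.centralizer ({h} : Set G), H⁆ ⊓ Subgroup.centralizer (H : Set G) = ⊥)
    (χ : IrrCharacter G) (hθ : IsIrrCharacter W (fun w : W => (χ : G → ℂ) w)) (w : G) :
    (χ : G → ℂ) ⁅h, w⁆ = (χ : G → ℂ) 1 := by
  classical
  have hpp : p.Prime := Fact.out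
  have hp3 : 3 ≤ p := by have := hpp.two_le; omega
  have hχc := irr_isCharacter χ.2
  set d := deg (χ : G → ℂ) with hd
  have hd1 : (χ : G → ℂ) 1 = d := char_one_eq_deg hχc
  have hd0 : (d : ℂ) ≠ 0 := Nat.cast_ne_zero.mpr (deg_pos χ.2).ne'
  have hpow : ∀ i : ℕ, i + 1 < p →
      (d : ℂ) ^ i * (χ : G → ℂ) (h ^ (i + 1)) = (χ : G → ℂ) h ^ (i + 1) := by
    intro i hi
    induction i with
    | zero => simp
    | succ i ih =>
      have hne : h ^ (i + 1) * h ≠ 1 := by
        rw [← pow_succ]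
        exact pow_ne_one_of_lt_orderOf (by omega) (by omega)
      have h1 := value_mul hH hWp htop hh hhp hfix χ hθ
        (Subgroup.pow_mem _ (Subgroup.mem_zpowers h) (i + 1)) (Subgroup.mem_zpowers h) hne
      rw [← pow_succ, hd1] at h1
      linear_combination (d : ℂ) ^ i * h1 + (χ : G → ℂ) h * ih (by omega)
  set c := (χ : G → ℂ) h with hc
  have hc0 : c ≠ 0 := by
    intro h0
    haveI : Fintype (Subgroup.zpowers h) := Fintype.ofFinite _
    obtain ⟨m, hm⟩ := classInner_natCast (isCharacter_comp (Subgroup.zpowers h).subtype hχc)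
      (isCharacter_one (G := Subgroup.zpowers h))
    rw [classInner, Nat.card_zpowers, hhp, inv_mul_eq_iff_eq_mul₀ (Nat.cast_ne_zero.mpr hpp.ne_zero),
      Finset.sum_eq_single (1 : Subgroup.zpowers h)] at hm
    · simp only [Function.comp_apply, Subgroup.coe_subtype, Subgroup.coe_one, map_one, mul_one, hd1] at hm
      have h2 : d = p * m := by exact_mod_cast hm
      have h3 : d ∣ Nat.card W := by
        have e : deg (fun w : W => (χ : G → ℂ) w) = d := rfl
        exact e ▸ deg_dvd_card hθ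
      exact hWp ((Dvd.intro m h2.symm).trans h3)
    · intro x _ hx
      obtain ⟨i, hi, e⟩ : ∃ i < p, h ^ i = (x : G) := by
        obtain ⟨k, hk⟩ := (IsOfFinOrder.mem_powers_iff_mem_zpowers (isOfFinOrder_of_finite h)).2 x.2
        exact ⟨k % p, Nat.mod_lt _ hpp.pos, by rw [← hhp, pow_mod_orderOf]; exact hk⟩
      obtain ⟨i, rfl⟩ : ∃ j, i = j + 1 :=
        Nat.exists_eq_add_one.2 (Nat.pos_of_ne_zero fun h0 => hx (Subtype.ext (by rw [← e, h0, pow_zero]; rfl)))
      have h1 := hpow i hi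
      rw [h0, zero_pow i.succ_ne_zero, mul_eq_zero, e] at h1
      simp [h1.resolve_left (pow_ne_zero _ hd0)]
    · simp
  have hconj : (d : ℂ) ^ (p - 2) * conj c = c ^ (p - 1) := by
    have h1 := hpow (p - 2) (by omega)
    rw [show p - 2 + 1 = p - 1 by omega] at h1
    rwa [hc, ← char_inv hχc, show h⁻¹ = h ^ (p - 1) from inv_eq_of_mul_eq_one_left (by
      rw [← pow_succ, show p - 1 + 1 = p by omega, ← hhp, pow_orderOf_eq_one])]
  have hnorm : ‖c‖ = (d : ℝ) := by
    have h1 := congrArg (fun z : ℂ => ‖z‖) hconj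
    simp only [norm_mul, norm_pow, Complex.norm_natCast, Complex.norm_conj] at h1
    rw [show p - 1 = (p - 2) + 1 by omega, pow_succ] at h1
    have h2 : (d : ℝ) ^ (p - 2) = ‖c‖ ^ (p - 2) :=
      mul_right_cancel₀ (norm_ne_zero_iff.2 hc0) h1
    exact ((pow_left_inj₀ (Nat.cast_nonneg d) (norm_nonneg c) (by omega)).1 h2).symm
  obtain ⟨n, ρ, hirr, hρ⟩ := χ.2
  have hn : (Module.finrank ℂ (Fin n → ℂ) : ℂ) = d := by
    rw [← hd1, ← hρ, Representation.char_one]
  have hn' : (Module.finrank ℂ (Fin n → ℂ) : ℝ) = d := by exact_mod_cast hn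
  obtain ⟨ω, hω⟩ := (eq_scalar_iff ρ h).1 (by rw [hρ, hn', ← hnorm])
  rw [← hρ, show ρ.character ⁅h, w⁆ = ρ.character 1 from ?_]
  have hinv : ρ h * ρ h⁻¹ = 1 := by rw [← map_mul, mul_inv_cancel, map_one]
  have e : ρ ⁅h, w⁆ = 1 := by
    rw [commutatorElement_def, map_mul, map_mul, map_mul]
    rw [hω, ← Module.End.one_eq_id, smul_mul_assoc, one_mul] at hinv
    rw [hω, ← Module.End.one_eq_id, smul_mul_assoc, one_mul, smul_mul_assoc, smul_mul_assoc,
      ← smul_mul_assoc ω, ← mul_smul_comm, hinv, mul_one, ← map_mul, mul_inv_cancel, map_one]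
  simp only [Representation.character, e, map_one]

omit [Fintype G] in
theorem fixed_aux : ∀ (m : ℕ) (G : Type u) (_ : Group G) (_ : Finite G), Nat.card G = m → p ≠ 2 →
    ∀ (H W : Subgroup G), W.Normal → ¬ p ∣ Nat.card W → H ⊔ W = ⊤ → Hyp p H →
      ⁅W, H⁆ ⊓ Subgroup.centralizer (H : Set G) = ⊥ := by
  intro m
  induction m using Nat.strong_induction_on with
  | _ m ih =>
  intro G _ _ hm hp2 H W hWn hWp htop h
  subst hm
  have hpp : p.Prime := Fact.out
  have hHW : H ≤ Subgroup.normalizer (W : Set G) := by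
    rw [Subgroup.normalizer_eq_top]; exact le_top
  have hinf : H ⊓ W = ⊥ := Solv.coprime_inf (coprime_card h.pgroup hWp)
  have hco := coprime_card h.pgroup hWp
  have hsub : ∀ W' : Subgroup G, W' ≤ W → W' ≠ W → H ≤ Subgroup.normalizer (W' : Set G) →
      ⁅W', H⁆ ⊓ Subgroup.centralizer (H : Set G) = ⊥ := by
    intro W' hle hne hn
    set U := H ⊔ W'
    have hU : U ≠ ⊤ := by
      intro hU
      refine hne (le_antisymm hle fun w hw => ?_)
      have hw' : w ∈ (H : Set G) * (W' : Set G) := by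
        rw [← Subgroup.coe_mul_of_left_le_normalizer_right H W' hn]
        show w ∈ U
        rw [hU]; trivial
      obtain ⟨s, hs, t, ht, rfl⟩ := hw'
      have hs1 : s = 1 := by
        rw [← Subgroup.mem_bot, ← hinf]
        exact ⟨hs, by simpa using mul_mem hw (inv_mem (hle ht))⟩
      simpa [hs1] using ht
    have hlt : Nat.card U < Nat.card G := lt_of_le_of_ne (Subgroup.card_le_card_group U)
      fun e => hU ((Subgroup.card_eq_iff_eq_top U).1 e)
    have h1 := ih _ hlt U inferInstance inferInstance rfl hp2 (H.subgroupOf U) (W'.subgroupOf U)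
      (Subgroup.normal_subgroupOf_of_le_normalizer (sup_le hn Subgroup.le_normalizer))
      (by rw [Solv.card_subgroupOf (le_sup_right : W' ≤ U)]; exact not_dvd_of_le hle hWp)
      (by rw [← Subgroup.subgroupOf_sup le_sup_left le_sup_right]; exact Subgroup.subgroupOf_self _)
      (h.subgroup le_sup_left)
    rw [eq_bot_iff]
    intro x hx
    have hx' : x ∈ (⁅W'.subgroupOf U, H.subgroupOf U⁆).map U.subtype := by
      rw [Subgroup.map_commutator, Subgroup.map_subgroupOf_eq_of_le (le_sup_right : W' ≤ U),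
        Subgroup.map_subgroupOf_eq_of_le (le_sup_left : H ≤ U)]
      exact hx.1
    obtain ⟨y, hy, rfl⟩ := hx'
    have hy1 : y = 1 := by
      rw [← Subgroup.mem_bot, ← h1]
      exact ⟨hy, Subgroup.mem_centralizer_iff.2 fun s hs =>
        Subtype.ext (Subgroup.mem_centralizer_iff.1 hx.2 s hs)⟩
    simp [hy1]
  by_cases hW1 : ⁅W, H⁆ = W
  swap
  · obtain ⟨h1, -, h3⟩ := Solv.commutator_normal_in hHW
    have := hsub _ h1 hW1 h3
    rwa [Solv.commutator_commutator_eq hHW hco (Or.inl h.isSolvable)] at this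
  rw [hW1]
  by_contra hZ
  have hquo : ∀ (N : Subgroup G) [N.Normal], N ≠ ⊥ → W ⊓ Subgroup.centralizer (H : Set G) ≤ N := by
    intro N _ hN z hz
    set f := QuotientGroup.mk' N
    have hlt : Nat.card (G ⧸ N) < Nat.card G := by
      rw [Subgroup.card_eq_card_quotient_mul_card_subgroup N]
      exact lt_mul_of_one_lt_right Nat.card_pos (N.one_lt_card_iff_ne_bot.2 hN)
    have h1 := ih _ hlt (G ⧸ N) inferInstance inferInstance rfl hp2 (H.map f) (W.map f)
      (Subgroup.Normal.map hWn f (QuotientGroup.mk'_surjective N))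
      (fun hd => hWp (hd.trans (Subgroup.card_map_dvd _ f)))
      (by rw [← Subgroup.map_sup, htop, Subgroup.map_top_of_surjective f (QuotientGroup.mk'_surjective N)])
      (h.map f (QuotientGroup.mk'_surjective N))
    rw [← Subgroup.map_commutator, hW1] at h1
    rw [← QuotientGroup.eq_one_iff]
    show f z = 1
    rw [← Subgroup.mem_bot, ← h1]
    refine ⟨Subgroup.mem_map_of_mem f hz.1, Subgroup.mem_centralizer_iff.2 ?_⟩
    rintro _ ⟨s, hs, rfl⟩
    rw [← map_mul, ← map_mul, Subgroup.mem_centralizer_iff.1 hz.2 s hs]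
  have hcen : ∀ c ∈ H, c ≠ 1 → W ⊓ Subgroup.centralizer ({c} : Set G) ≠ W := by
    intro c hc hc1 he
    have hc' : ∀ g : G, Commute c g := by
      intro g
      have hg : g ∈ (H : Set G) * (W : Set G) := by
        rw [← Subgroup.mul_normal, htop]; trivial
      obtain ⟨s, hs, w, hw, rfl⟩ := hg
      exact Commute.mul_right (h.comm c hc s hs)
        (Subgroup.mem_centralizer_singleton_iff.1 (he.ge hw).2).symm
    haveI : (Subgroup.zpowers c).Normal := ⟨fun n hn g => by
      obtain ⟨k, rfl⟩ := Subgroup.mem_zpowers_iff.1 hn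
      rw [← ((hc' g).zpow_left k).eq, mul_inv_cancel_right]
      exact Subgroup.zpow_mem _ (Subgroup.mem_zpowers c) k⟩
    refine hZ (eq_bot_iff.2 fun z hz => hinf.le ⟨?_, hz.1⟩)
    exact (Subgroup.zpowers_le.2 hc) (hquo _ (by rwa [Ne, Subgroup.zpowers_eq_bot]) hz)
  letI := Fintype.ofFinite G
  letI : Fintype W := Fintype.ofFinite W
  obtain ⟨M, hM⟩ := exists_pModular hpp
  set Z := W ⊓ Subgroup.centralizer (H : Set G)
  letI : Fintype Z := Fintype.ofFinite Z
  set φ : H →* MulAut W := conjActHom W H fun s hs g hg => hWn.conj_mem g hg s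
  set ι : Z →* W := Subgroup.inclusion inf_le_left
  have hh : CoprimeFix M p φ ι := by
    refine ⟨hM, h.pgroup, hWp, Subgroup.inclusion_injective _, fun g => ⟨?_, fun h => ?_⟩⟩
    · rintro ⟨c, rfl⟩ s
      refine Subtype.ext ?_
      rw [conjActHom_coe]
      show (s : G) * (c : G) * (s : G)⁻¹ = c
      rw [Subgroup.mem_centralizer_iff.1 c.2.2 s s.2, mul_inv_cancel_right]
    · refine ⟨⟨g, g.2, Subgroup.mem_centralizer_iff.2 fun s hs => ?_⟩, rfl⟩
      have := congrArg Subtype.val (h ⟨s, hs⟩)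
      rw [conjActHom_coe, mul_inv_eq_iff_eq_mul] at this
      exact this
  haveI : Nontrivial Z := (Subgroup.nontrivial_iff_ne_bot Z).2 hZ
  haveI := nontrivial_irr (C := Z)
  obtain ⟨β, hβ⟩ := exists_ne (⟨fun _ => 1, isIrrCharacter_one⟩ : IrrCharacter Z)
  set θ := hh.corr β
  have hθker : ¬ ∀ z : Z, (θ : W → ℂ) (ι z) = (θ : W → ℂ) 1 := by
    intro hall
    have hfun : (θ : W → ℂ) ∘ ι = ((θ : W → ℂ) 1) • (fun _ : Z => (1 : ℂ)) := by
      funext z; simp [hall z]
    obtain ⟨h1, -⟩ := hh.multiplicity (hh.corr_inv β) β (m := 0) (by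
      rw [hfun, classInner_smul_left, irr_orth isIrrCharacter_one β.2,
        if_neg fun e => hβ (Subtype.ext e.symm), mul_zero, Nat.cast_zero])
    rcases h1 rfl with e | e
    · have := Int.ModEq.dvd e
      simp only [Nat.cast_zero, sub_zero] at this
      exact hpp.not_dvd_one (by exact_mod_cast this)
    · have := Int.ModEq.dvd e
      simp only [Nat.cast_zero, sub_zero, dvd_neg] at this
      exact hpp.not_dvd_one (by exact_mod_cast this)
  have hinv : ∀ (g : G) (w : W), (θ : W → ℂ) (MulAut.conjNormal g w) = (θ : W → ℂ) w := by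
    intro g w
    have hg : g ∈ (H : Set G) * (W : Set G) := by
      rw [← Subgroup.mul_normal, htop]; trivial
    obtain ⟨s, hs, t, ht, rfl⟩ := hg
    have e : MulAut.conjNormal (s * t) w = φ ⟨s, hs⟩ (⟨t, ht⟩ * w * (⟨t, ht⟩ : W)⁻¹) :=
      Subtype.ext (by simp [φ, conjActHom_coe, MulAut.conjNormal_apply, mul_assoc])
    rw [e, hh.corr_inv, isClassFunction_character (irr_isCharacter θ.2)]
  have hindex : ∃ k, W.index = p ^ k := by
    refine IsPGroup.iff_card.1 (h.pgroup.of_surjective ((QuotientGroup.mk' W).comp H.subtype) fun x => ?_)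
    obtain ⟨g, rfl⟩ := QuotientGroup.mk'_surjective W x
    have hg : g ∈ (H : Set G) * (W : Set G) := by
      rw [← Subgroup.mul_normal, htop]; trivial
    obtain ⟨s, hs, t, ht, rfl⟩ := hg
    exact ⟨⟨s, hs⟩, (QuotientGroup.mk'_eq_mk' W).2 ⟨t, ht, rfl⟩⟩
  obtain ⟨k, hk⟩ := hindex
  have hcopdvd : ∀ o, o ∣ Nat.card W → W.index.Coprime o := fun o ho => by
    rw [hk]
    exact (Nat.Coprime.pow_left k (hpp.coprime_iff_not_dvd.2 hWp)).coprime_dvd_right ho
  obtain ⟨n, σ, hσ, hσc⟩ := θ.2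
  have hdet := detChar_eq_hom σ hσc
  obtain ⟨μ, hμ, -⟩ := exists_linear_extension_coprime (H := G) (Z := W) (detHom σ)
    (fun g w => Units.ext (by
      have := detChar_conj_inv W (irr_isCharacter θ.2) hinv g w
      rwa [hdet] at this))
    (hcopdvd _ (orderOf_dvd_of_pow_eq_one (MonoidHom.ext fun w => by
      rw [MonoidHom.pow_apply, MonoidHom.one_apply, ← map_pow, pow_card_eq_one', map_one])))
  obtain ⟨χf, hχi, hχr⟩ := exists_extension_of_det_extension W θ.2 hinv (deg (θ : W → ℂ))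
    (char_one_eq_deg (irr_isCharacter θ.2)) (hcopdvd _ (deg_dvd_card θ.2)) μ
    (fun w => by rw [hμ, hdet])
  set χ : IrrCharacter G := ⟨χf, hχi⟩
  have hθW : IsIrrCharacter W (fun w : W => (χ : G → ℂ) w) := by
    rw [show (fun w : W => (χ : G → ℂ) w) = (θ : W → ℂ) from funext hχr]
    exact θ.2
  by_cases hHbot : H = ⊥
  · have hW0 : W = ⊥ := by rw [← hW1, hHbot, Subgroup.commutator_bot_right]
    exact hZ (eq_bot_iff.2 (inf_le_left.trans hW0.le))
  haveI := (Subgroup.nontrivial_iff_ne_bot H).2 hHbot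
  obtain ⟨j, hj, hcardH⟩ := h.pgroup.nontrivial_iff_card.1 inferInstance
  obtain ⟨⟨a, ha⟩, hord⟩ := exists_prime_orderOf_dvd_card' p (hcardH ▸ dvd_pow_self p hj.ne' :
    p ∣ Nat.card H)
  rw [Subgroup.orderOf_mk] at hord
  have ha1 : a ≠ 1 := fun e => hpp.ne_one (hord ▸ (by rw [e, orderOf_one]))
  have hCn : H ≤ Subgroup.normalizer ((W ⊓ Subgroup.centralizer ({a} : Set G) : Subgroup G) : Set G) := by
    intro s hs
    have hsC : s ∈ Subgroup.normalizer ((Subgroup.centralizer ({a} : Set G) : Subgroup G) : Set G) :=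
      Subgroup.le_normalizer (Subgroup.mem_centralizer_singleton_iff.2 (h.comm s hs a ha))
    exact Subgroup.mem_normalizer_iff.2 fun y =>
      ⟨fun hy => ⟨(Subgroup.mem_normalizer_iff.1 (hHW hs) y).1 hy.1,
          (Subgroup.mem_normalizer_iff.1 hsC y).1 hy.2⟩,
        fun hy => ⟨(Subgroup.mem_normalizer_iff.1 (hHW hs) y).2 hy.1,
          (Subgroup.mem_normalizer_iff.1 hsC y).2 hy.2⟩⟩
  have hfix := hsub _ inf_le_left (hcen a ha ha1) hCn
  obtain ⟨K, hKn, hK⟩ := exists_charKernel (irr_isCharacter χ.2)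
  haveI := hKn
  obtain ⟨w, hw, hwa⟩ : ∃ w ∈ W, ⁅a, w⁆ ≠ 1 := by
    by_contra hall
    push Not at hall
    refine hcen a ha ha1 (le_antisymm inf_le_left fun w hw => ⟨hw, ?_⟩)
    exact Subgroup.mem_centralizer_singleton_iff.2
      (commutatorElement_eq_one_iff_mul_comm.1 (hall w hw)).symm
  have hmemW : ⁅a, w⁆ ∈ W := by
    rw [commutatorElement_def]
    exact W.mul_mem (hWn.conj_mem w hw a) (inv_mem hw)
  have hmemK : ⁅a, w⁆ ∈ K := (hK _).2
    (value_commutator h hp2 hWp htop ha hord hfix χ hθW w)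
  refine hθker fun z => ?_
  haveI : (W ⊓ K).Normal := inferInstance
  have hz := hquo (W ⊓ K) (fun e => hwa (Subgroup.mem_bot.1 (e ▸ ⟨hmemW, hmemK⟩))) z.2
  rw [← hχr, ← hχr]
  exact (hK _).1 hz.2

/-- The two conclusions. -/
theorem main {H : Subgroup G} (h : Hyp p H) (hp2 : p ≠ 2) :
    Subgroup.normalClosure (H : Set G) ⊓ Subgroup.normalizer (H : Set G) = H ∧
      Subgroup.normalizer (H : Set G) ⊔ Cfsg.pPrimeCore p G = ⊤ := by
  have hT := factor h hp2
  refine ⟨le_antisymm ?_ (le_inf Subgroup.subset_normalClosure Subgroup.le_normalizer), hT⟩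
  set O := Cfsg.pPrimeCore p G
  have hOn : O.Normal := inferInstance
  have hOp : ¬ p ∣ Nat.card O :=
    (Fact.out : p.Prime).coprime_iff_not_dvd.1 (Fusion.card_pPrimeCore_coprime p G).symm
  have hHO : H ≤ Subgroup.normalizer (O : Set G) := by
    rw [Subgroup.normalizer_eq_top]; exact le_top
  set U := H ⊔ O
  have h1 := fixed_aux _ U inferInstance inferInstance rfl hp2 (H.subgroupOf U) (O.subgroupOf U)
    (Subgroup.Normal.comap hOn _)
    (by rw [Solv.card_subgroupOf (le_sup_right : O ≤ U)]; exact hOp)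
    (by rw [← Subgroup.subgroupOf_sup le_sup_left le_sup_right]; exact Subgroup.subgroupOf_self _)
    (h.subgroup le_sup_left)
  have hfix : ⁅O, H⁆ ⊓ Subgroup.centralizer (H : Set G) = ⊥ := by
    rw [eq_bot_iff]
    intro x hx
    have hx' : x ∈ (⁅O.subgroupOf U, H.subgroupOf U⁆).map U.subtype := by
      rw [Subgroup.map_commutator, Subgroup.map_subgroupOf_eq_of_le (le_sup_right : O ≤ U),
        Subgroup.map_subgroupOf_eq_of_le (le_sup_left : H ≤ U)]
      exact hx.1
    obtain ⟨y, hy, rfl⟩ := hx'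
    have hy1 : y = 1 := by
      rw [← Subgroup.mem_bot, ← h1]
      exact ⟨hy, Subgroup.mem_centralizer_iff.2 fun s hs =>
        Subtype.ext (Subgroup.mem_centralizer_iff.1 hx.2 s hs)⟩
    simp [hy1]
  obtain ⟨hWO, hOW, hHW⟩ := Solv.commutator_normal_in hHO
  set W := ⁅O, H⁆
  have hconj : ∀ g : G, ∀ a ∈ H, g * a * g⁻¹ ∈ H ⊔ W := by
    intro g a ha
    have hg : g ∈ (O : Set G) * (Subgroup.normalizer (H : Set G) : Set G) := by
      rw [← Subgroup.normal_mul, sup_comm, hT]; trivial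
    obtain ⟨o, ho, n, hn, rfl⟩ := hg
    have ha' : n * a * n⁻¹ ∈ H := (Subgroup.mem_normalizer_iff.1 hn a).1 ha
    rw [show o * n * a * (o * n)⁻¹ = ⁅o, n * a * n⁻¹⁆ * (n * a * n⁻¹) by
      rw [commutatorElement_def]; group]
    exact mul_mem (Subgroup.mem_sup_right (Subgroup.commutator_mem_commutator ho ha'))
      (Subgroup.mem_sup_left ha')
  have hle : Subgroup.normalClosure (H : Set G) ≤ H ⊔ W := by
    rw [Subgroup.normalClosure, Subgroup.closure_le]
    intro x hx
    obtain ⟨a, ha, hax⟩ := Group.mem_conjugatesOfSet_iff.1 hx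
    obtain ⟨g, rfl⟩ := isConj_iff.1 hax
    exact hconj g a ha
  rintro x ⟨hx, hxN⟩
  have hx' : x ∈ (H : Set G) * (W : Set G) := by
    rw [← Subgroup.coe_mul_of_left_le_normalizer_right H W hHW]; exact hle hx
  obtain ⟨a, ha, w, hw, rfl⟩ := hx'
  have hwN : w ∈ Subgroup.normalizer (H : Set G) := by
    simpa using mul_mem (inv_mem (Subgroup.le_normalizer ha)) hxN
  have hwC := Solv.centralizer_of_normalizes (A := H) (K := O) hHO
    (Solv.coprime_inf (coprime_card h.pgroup hOp).symm) (hWO hw) hwN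
  have hw1 : w = 1 := by rw [← Subgroup.mem_bot, ← hfix]; exact ⟨hw, hwC⟩
  simpa [hw1] using ha

end Cfsg.Agent.Lie.EC
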