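import Cfsg.Agent.Lib.Lie.EC.RankOne

/-!
# Extremely closed abelian `p`-subgroups: linear characters when `N(H)` is not transitive on `H`
-/

set_option autoImplicit false
set_option linter.unusedSectionVars false

open scoped Pointwise ComplexConjugate
open Cfsg Cfsg.Agent.Char

namespace Cfsg.Agent.Lie.EC

universe u

variable {G : Type u} [Group G] [Fintype G] {p : ℕ} [Fact p.Prime] {M : Ideal AlgInt}
  {H : Subgroup G} [Fintype H] [Fintype (Subgroup.normalizer (H : Set G))]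

theorem self_mem_orb {c : G} (hc : c ∈ H) : (⟨c, hc⟩ : H) ∈ orb H c :=
  mem_orb.2 ⟨1, by simp⟩

variable (hH : Hyp p H)
include hH

/-- Two elements with the same orbit sums are conjugate in `N(H)`. -/
theorem mem_orb_of_orbSum_eq {a c : H}
    (h : ∀ ψ : H →* ℂˣ, orbSum ψ a = orbSum ψ c) : a ∈ orb H (c : G) := by
  classical
  by_contra hn
  let f : H → ℂ := fun d => ((orb H (a : G)).card : ℂ) * (if d ∈ orb H (c : G) then 1 else 0) -
    ((orb H (c : G)).card : ℂ) * (if d ∈ orb H (a : G) then 1 else 0)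
  have hcomm : ∀ x y : H, x * y = y * x := fun x y => Subtype.ext (hH.comm _ x.2 _ y.2)
  have hf : IsClassFunction H f := fun x k => by
    rw [hcomm k x, mul_inv_cancel_right]
  have h0 : f = 0 := by
    refine classFun_eq_zero hf fun χ => ?_
    obtain ⟨ψ, hψ⟩ := exists_hom_of_degree_one (irr_isCharacter χ.2) (forall_linear_iff_comm.1 hcomm χ)
    have hN : (Nat.card (Subgroup.normalizer (H : Set G)) : ℂ) ≠ 0 :=
      Nat.cast_ne_zero.mpr Nat.card_pos.ne'
    rw [classInner, hψ, mul_eq_zero]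
    right
    refine mul_left_cancel₀ hN ?_
    rw [mul_zero]
    have hh : ∀ x : H, ∑ d : H, (if d ∈ orb H (x : G) then (1 : ℂ) else 0) * conj (ψ d : ℂ) =
        ∑ d ∈ orb H (x : G), conj (ψ d : ℂ) := fun x => by simp [ite_mul]
    simp only [f, sub_mul, Finset.sum_sub_distrib, mul_assoc, ← Finset.mul_sum, hh]
    have h1 := sum_orb_lin ψ c.2
    have h2 := sum_orb_lin ψ a.2
    rw [Subtype.coe_eta] at h1 h2
    rw [h ψ] at h2
    linear_combination ((orb H (a : G)).card : ℂ) * h1 - ((orb H (c : G)).card : ℂ) * h2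
  have h1 := congrFun h0 a
  simp only [f, if_neg hn, mul_zero, zero_sub, Pi.zero_apply,
    if_pos (show a ∈ orb H (a : G) from self_mem_orb a.2), mul_one, neg_eq_zero,
    Nat.cast_eq_zero, Finset.card_eq_zero] at h1
  exact Finset.ne_empty_of_mem (self_mem_orb c.2) h1

variable (hnt : ∃ a c : H, (a : G) ≠ 1 ∧ (c : G) ≠ 1 ∧ a ∉ orb H (c : G))
include hnt

theorem orbSum_not_const {ψ : H →* ℂˣ} (hψ : ψ ≠ 1) :
    ¬ ∃ k : ℂ, ∀ b : H, (b : G) ≠ 1 → orbSum ψ b = k := by
  classical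
  rintro ⟨k, hk⟩
  obtain ⟨a, c, ha1, hc1, hn⟩ := hnt
  refine hn (mem_orb_of_orbSum_eq hH fun μ => ?_)
  by_cases hμ : μ = 1
  · rw [hμ, orbSum_trivial, orbSum_trivial]
  set N := (Nat.card (Subgroup.normalizer (H : Set G)) : ℂ) with hN
  have key : ∀ ν : H →* ℂˣ, ν ≠ 1 → (Nat.card H : ℂ) * cnt ψ ν = N - k := by
    intro ν hν
    rw [← sum_lin_orbSum ψ ν, ← Finset.add_sum_erase _ _ (Finset.mem_univ (1 : H)), orbSum_one,
      map_one, Units.val_one, map_one, one_mul, ← hN]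
    have e0 := sum_lin ν (1 : H →* ℂˣ)
    rw [if_neg (Ne.symm hν), ← Finset.add_sum_erase _ _ (Finset.mem_univ (1 : H))] at e0
    simp only [MonoidHom.one_apply, Units.val_one, mul_one, map_one] at e0
    rw [Finset.sum_congr rfl fun b hb => by
      rw [hk b fun e => Finset.ne_of_mem_erase hb (Subtype.ext e)], ← Finset.sum_mul]
    linear_combination k * e0
  have hpos : 0 < cnt ψ μ := by
    have h1 := (key ψ hψ).trans (key μ hμ).symm
    exact (Nat.cast_injective (mul_left_cancel₀ (Nat.cast_ne_zero.mpr Nat.card_pos.ne') h1)) ▸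
      cnt_self_pos ψ
  obtain ⟨n, hn'⟩ := Finset.card_pos.1 hpos
  rw [← (Finset.mem_filter.1 hn').2, orbSum_conjLin, orbSum_conjLin, hk a ha1, hk c hc1]

theorem exists_orbSum_ne_zero {ψ : H →* ℂˣ} (hψ : ψ ≠ 1) :
    ∃ c : H, (c : G) ≠ 1 ∧ orbSum ψ c ≠ 0 := by
  by_contra hall
  push Not at hall
  exact orbSum_not_const hH hnt hψ ⟨0, hall⟩

variable (hM : IsPModular p M) (hv : ValOK M p H)
  (hker : ∀ χ : IrrCharacter G, (∀ b : H, (χ : G → ℂ) b = (χ : G → ℂ) 1) →
    (χ : G → ℂ) = fun _ => 1)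
include hM hv

/-- A principal character containing `ψ` with a nonzero value on `H ∖ 1` is a multiple of its
orbit sum. -/
theorem restrict_eq {ψ : H →* ℂˣ} (hψ : ψ ≠ 1) {χ : IrrCharacter G} (hχ : χ ∈ b0 M G)
    (hm : mult ψ (χ : G → ℂ) ≠ 0) {c : H} (hc1 : (c : G) ≠ 1) (hS : orbSum ψ c ≠ 0)
    (hχc : (χ : G → ℂ) c ≠ 0) :
    ∀ b : H, (χ : G → ℂ) b = (χ : G → ℂ) c / orbSum ψ c * orbSum ψ b := by
  classical
  set κ := (χ : G → ℂ) c / orbSum ψ c with hκ
  have hoff : ∀ b : H, (b : G) ≠ 1 → (χ : G → ℂ) b = κ * orbSum ψ b := fun b hb => by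
    rw [hκ, div_mul_eq_mul_div, eq_div_iff hS]
    exact rank_one hM hH hv ψ hχ hm b c hb hc1
  intro b
  by_cases hb : (b : G) ≠ 1
  · exact hoff b hb
  obtain rfl : b = 1 := Subtype.ext (not_not.1 hb)
  rw [orbSum_one, Subgroup.coe_one]
  by_contra hr
  set N := (Nat.card (Subgroup.normalizer (H : Set G)) : ℂ) with hN
  have hT : mult (1 : H →* ℂˣ) (χ : G → ℂ) = (χ : G → ℂ) 1 - κ * N := by
    have e := sum_lin_orbSum ψ (1 : H →* ℂˣ)
    rw [cnt_trivial hψ, Nat.cast_zero, mul_zero] at e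
    simp only [MonoidHom.one_apply, Units.val_one, map_one, one_mul] at e
    rw [← Finset.add_sum_erase _ _ (Finset.mem_univ (1 : H)), orbSum_one] at e
    rw [mult]
    simp only [MonoidHom.one_apply, Units.val_one, map_one, one_mul]
    rw [← Finset.add_sum_erase _ _ (Finset.mem_univ (1 : H)), Subgroup.coe_one,
      Finset.sum_congr rfl fun b hb => hoff b fun e => Finset.ne_of_mem_erase hb (Subtype.ext e),
      ← Finset.mul_sum]
    linear_combination κ * e
  refine orbSum_not_const hH hnt hψ ⟨orbSum ψ c, fun a ha => ?_⟩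
  have h1 := rank_one hM hH hv (1 : H →* ℂˣ) hχ (by rw [hT]; exact sub_ne_zero.2 hr) a c ha hc1
  rw [orbSum_trivial, orbSum_trivial] at h1
  replace h1 := mul_right_cancel₀ (Nat.cast_ne_zero.mpr Nat.card_pos.ne') h1
  have h2 := rank_one hM hH hv ψ hχ hm a c ha hc1
  rw [h1] at h2
  exact (mul_left_cancel₀ hχc h2).symm

include hker

/-- The common norm of the columns. -/
theorem E_eq (c : H) (hc1 : (c : G) ≠ 1) :
    colIp M (c : G) c * ((orb H (c : G)).card : ℂ) = Nat.card H := by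
  classical
  set N := (Nat.card (Subgroup.normalizer (H : Set G)) : ℂ) with hN
  have hN0 : N ≠ 0 := Nat.cast_ne_zero.mpr Nat.card_pos.ne'
  have h := identity hM hH hv (1 : H →* ℂˣ) c c hc1
  simp only [orbSum_trivial, Complex.conj_natCast] at h
  rw [← hN] at h
  set one : IrrCharacter G := ⟨fun _ => 1, isIrrCharacter_one⟩
  rw [Finset.sum_eq_single one] at h
  · have hT : mult (1 : H →* ℂˣ) (one : G → ℂ) = Nat.card H := by
      simp [mult, one, Nat.card_eq_fintype_card]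
    rw [hT] at h
    simp only [one, map_one, mul_one, div_one] at h
    refine mul_right_cancel₀ (mul_ne_zero hN0 hN0) (h.symm.trans ?_)
    ring
  · intro χ hχ hne
    by_cases hm : mult (1 : H →* ℂˣ) (χ : G → ℂ) = 0
    · rw [hm, zero_div, zero_mul]
    by_cases he : (χ : G → ℂ) c = 0
    · rw [he]; simp
    exfalso
    set e := (χ : G → ℂ) c with hedef
    have hconst : ∀ b : H, (b : G) ≠ 1 → (χ : G → ℂ) b = e := fun b hb => by
      have h1 := rank_one hM hH hv (1 : H →* ℂˣ) hχ hm b c hb hc1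
      rw [orbSum_trivial, orbSum_trivial] at h1
      exact mul_right_cancel₀ hN0 h1
    refine hne (Subtype.ext (hker χ fun b => ?_))
    by_cases hb : (b : G) = 1
    · rw [hb]
    rw [hconst b hb]
    by_contra hd
    obtain ⟨a', c', ha', hc', hn⟩ := hnt
    refine hn (mem_orb_of_orbSum_eq hH fun μ => ?_)
    by_cases hμ : μ = 1
    · rw [hμ, orbSum_trivial, orbSum_trivial]
    have hTμ : mult μ (χ : G → ℂ) = (χ : G → ℂ) 1 - e := by
      have e0 := sum_lin μ (1 : H →* ℂˣ)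
      rw [if_neg (Ne.symm hμ), ← Finset.add_sum_erase _ _ (Finset.mem_univ (1 : H))] at e0
      simp only [MonoidHom.one_apply, Units.val_one, mul_one, map_one] at e0
      rw [mult, ← Finset.add_sum_erase _ _ (Finset.mem_univ (1 : H)), Subgroup.coe_one, map_one,
        Units.val_one, map_one, one_mul,
        Finset.sum_congr rfl fun b hb => by
          rw [hconst b fun h => Finset.ne_of_mem_erase hb (Subtype.ext h)],
        ← Finset.sum_mul]
      linear_combination e * e0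
    have h2 := rank_one hM hH hv μ hχ (by rw [hTμ]; exact sub_ne_zero.2 (Ne.symm hd)) a' c' ha' hc'
    rw [hconst a' ha', hconst c' hc'] at h2
    exact (mul_left_cancel₀ he h2).symm
  · intro h1
    exact absurd (mem_b0.2 (sameBlock_refl (pmod_prime hM) _)) h1

/-- Every linear character of `H` extends to `G` and is invariant. -/
theorem exists_extension {ψ : H →* ℂˣ} (hψ : ψ ≠ 1) :
    ∃ l : G →* ℂˣ, (∀ b : H, l (b : G) = ψ b) ∧
      ∀ (n : Subgroup.normalizer (H : Set G)) (b : H), ψ (conjH n b) = ψ b := by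
  classical
  set N := Nat.card (Subgroup.normalizer (H : Set G)) with hN
  have hN0 : (N : ℂ) ≠ 0 := Nat.cast_ne_zero.mpr Nat.card_pos.ne'
  have hH0 : (Nat.card H : ℂ) ≠ 0 := Nat.cast_ne_zero.mpr Nat.card_pos.ne'
  obtain ⟨c, hc1, hS⟩ := exists_orbSum_ne_zero hH hnt hψ
  set S := (b0 M G).filter (fun χ : IrrCharacter G =>
    mult ψ (χ : G → ℂ) ≠ 0 ∧ (χ : G → ℂ) c ≠ 0) with hSdef
  have hdata : ∀ χ ∈ S, (∀ b : H, (χ : G → ℂ) b = (deg (χ : G → ℂ) : ℂ) / N * orbSum ψ b) ∧
      ∃ m : ℕ, deg (χ : G → ℂ) * cnt ψ ψ = N * m ∧ 0 < m ∧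
        mult ψ (χ : G → ℂ) = (Nat.card H : ℂ) * m := by
    intro χ hχ
    obtain ⟨hχ0, hm, hχc⟩ := Finset.mem_filter.1 hχ
    have h := restrict_eq hH hnt hM hv hψ hχ0 hm hc1 hS hχc
    set κ := (χ : G → ℂ) c / orbSum ψ c
    have h1 := h 1
    rw [orbSum_one, Subgroup.coe_one, char_one_eq_deg (irr_isCharacter χ.2), ← hN] at h1
    have hκ : κ = (deg (χ : G → ℂ) : ℂ) / N := by rw [h1, mul_div_cancel_right₀ _ hN0]
    rw [hκ] at h
    refine ⟨h, ?_⟩
    obtain ⟨m, hm'⟩ := mult_nat ψ (irr_isCharacter χ.2)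
    have e := hm'
    rw [mult, Finset.sum_congr rfl fun b _ => by rw [h b, mul_left_comm], ← Finset.mul_sum,
      sum_lin_orbSum] at e
    have e' : (deg (χ : G → ℂ) : ℂ) * cnt ψ ψ = N * m := by
      field_simp at e
      linear_combination e
    refine ⟨m, by exact_mod_cast e', Nat.pos_of_ne_zero fun h0 => hm ?_, hm'⟩
    rw [hm', h0, Nat.cast_zero, mul_zero]
  have hid := identity hM hH hv ψ c c hc1
  rw [E_eq hH hnt hM hv hker c hc1, ← hN,
    ← Finset.sum_subset (Finset.filter_subset _ _ : S ⊆ b0 M G) (fun χ hχ hns => by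
      by_cases hm : mult ψ (χ : G → ℂ) = 0
      · rw [hm, zero_div, zero_mul]
      · have : (χ : G → ℂ) c = 0 := not_not.1 fun hc => hns (Finset.mem_filter.2 ⟨hχ, hm, hc⟩)
        rw [this]; simp)] at hid
  have hsum : ∑ χ ∈ S, cnt ψ ψ * (deg (χ : G → ℂ) * deg (χ : G → ℂ)) = N := by
    have : ((∑ χ ∈ S, cnt ψ ψ * (deg (χ : G → ℂ) * deg (χ : G → ℂ)) : ℕ) : ℂ) = N := by
      refine mul_right_cancel₀ (mul_ne_zero hS ((map_ne_zero (starRingEnd ℂ)).2 hS)) ?_
      refine mul_left_cancel₀ hH0 ?_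
      push_cast
      rw [Finset.sum_mul, Finset.mul_sum]
      rw [Finset.mul_sum] at hid
      trans (N : ℂ) * ((Nat.card H : ℂ) * (orbSum ψ c * conj (orbSum ψ c)))
      · rw [← hid, Finset.mul_sum]
        refine Finset.sum_congr rfl fun χ hχ => ?_
        obtain ⟨hb, m, hm1, -, hm2⟩ := hdata χ hχ
        have hm1' : (deg (χ : G → ℂ) : ℂ) * cnt ψ ψ = N * m := by exact_mod_cast hm1
        have hd0 : (deg (χ : G → ℂ) : ℂ) ≠ 0 := Nat.cast_ne_zero.mpr (deg_pos χ.2).ne'
        rw [hm2, hb c, char_one_eq_deg (irr_isCharacter χ.2), map_mul, map_div₀,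
          Complex.conj_natCast, Complex.conj_natCast]
        field_simp
        linear_combination conj (orbSum ψ c) * hm1'
      · ring
    exact_mod_cast this
  obtain ⟨χ, hχ⟩ : S.Nonempty := by
    rw [Finset.nonempty_iff_ne_empty]
    intro h0
    rw [h0, Finset.sum_empty] at hsum
    exact Nat.card_pos.ne' hsum.symm
  obtain ⟨hb, m, hm1, hm0, -⟩ := hdata χ hχ
  have hle : cnt ψ ψ * (deg (χ : G → ℂ) * deg (χ : G → ℂ)) ≤ N :=
    hsum ▸ Finset.single_le_sum (f := fun χ : IrrCharacter G =>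
      cnt ψ ψ * (deg (χ : G → ℂ) * deg (χ : G → ℂ))) (fun _ _ => Nat.zero_le _) hχ
  rw [← mul_assoc, mul_comm (cnt ψ ψ), hm1, mul_assoc] at hle
  have hdm : m * deg (χ : G → ℂ) ≤ 1 := Nat.le_of_mul_le_mul_left (by rwa [mul_one]) Nat.card_pos
  have hd1 : deg (χ : G → ℂ) = 1 := le_antisymm
    ((Nat.le_mul_of_pos_left _ hm0).trans hdm) (deg_pos χ.2)
  obtain rfl : m = 1 := le_antisymm (by rwa [hd1, mul_one] at hdm) hm0
  rw [hd1, one_mul, mul_one] at hm1
  have hall : ∀ n : Subgroup.normalizer (H : Set G), conjLin ψ n = ψ := fun n => by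
    have h := (Finset.card_eq_iff_eq_univ _).1 (hm1.trans Nat.card_eq_fintype_card)
    have hn := Finset.mem_univ n
    rw [← h] at hn
    exact (Finset.mem_filter.1 hn).2
  have hinv : ∀ (n : Subgroup.normalizer (H : Set G)) (b : H), ψ (conjH n b) = ψ b :=
    fun n b => DFunLike.congr_fun (hall n) b
  obtain ⟨l, hl⟩ := exists_hom_of_degree_one (irr_isCharacter χ.2)
    (by rw [char_one_eq_deg (irr_isCharacter χ.2), hd1, Nat.cast_one])
  refine ⟨l, fun b => Units.ext ?_, hinv⟩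
  rw [← congrFun hl (b : G), hb b, hd1, orbSum]
  simp only [hinv, Finset.sum_const, Finset.card_univ, nsmul_eq_mul, Nat.cast_one]
  rw [hN, Nat.card_eq_fintype_card] at hN0 ⊢
  field_simp

/-- The structure forced by a non-transitive action. -/
theorem nontransitive_structure :
    (∀ c : H, (c : G) ≠ 1 → colIp M (c : G) c = Nat.card H) ∧
      (∀ (n : Subgroup.normalizer (H : Set G)) (b : H), conjH n b = b) ∧
      ∀ b : H, (b : G) ≠ 1 → ∃ l : G →* ℂˣ, l (b : G) ≠ 1 := by
  classical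
  have hcomm : ∀ x y : H, x * y = y * x := fun x y => Subtype.ext (hH.comm _ x.2 _ y.2)
  have hsep : ∀ x y : H, (∀ ψ : H →* ℂˣ, ψ ≠ 1 → ψ x = ψ y) → x = y := fun x y h => by
    suffices hall : ∀ χ : IrrCharacter H, (χ : H → ℂ) x = (χ : H → ℂ) y by
      obtain ⟨k, hk⟩ := isConj_iff.1 (isConj_of_forall_irr_eq hall)
      rwa [hcomm k x, mul_inv_cancel_right] at hk
    intro χ
    obtain ⟨ψ, hψ⟩ := exists_hom_of_degree_one (irr_isCharacter χ.2) (forall_linear_iff_comm.1 hcomm χ)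
    rw [hψ]
    by_cases h1 : ψ = 1
    · simp [h1]
    · simp [h ψ h1]
  have hfix : ∀ (n : Subgroup.normalizer (H : Set G)) (b : H), conjH n b = b := fun n b =>
    hsep _ _ fun ψ hψ => (exists_extension hH hnt hM hv hker hψ).choose_spec.2 n b
  refine ⟨fun c hc1 => ?_, hfix, fun b hb => ?_⟩
  · have h := E_eq hH hnt hM hv hker c hc1
    have : orb H (c : G) = {c} := by
      ext d
      rw [Finset.mem_singleton, mem_orb]
      refine ⟨fun ⟨n, hn⟩ => ?_, fun h => ⟨1, by simp [h]⟩⟩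
      rw [← hfix n c]
      exact Subtype.ext hn.symm
    rwa [this, Finset.card_singleton, Nat.cast_one, mul_one] at h
  · by_contra hall
    push Not at hall
    refine hb (congrArg Subtype.val (hsep b 1 fun ψ hψ => ?_))
    obtain ⟨l, hl, -⟩ := exists_extension hH hnt hM hv hker hψ
    rw [← hl, ← hl, hall, Subgroup.coe_one, map_one]

end Cfsg.Agent.Lie.EC
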