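import Cfsg.Agent.Lib.Lie.EC.Blocks

/-!
# Extremely closed abelian `p`-subgroups: the principal block when `N(H)` is not transitive on `H`
-/

set_option autoImplicit false
set_option linter.unusedSectionVars false

open scoped Pointwise ComplexConjugate
open Cfsg Cfsg.Agent.Char

namespace Cfsg.Agent.Lie.EC

universe u

variable {G : Type u} [Group G] [Fintype G] {p : ℕ} [Fact p.Prime] {M : Ideal AlgInt}
  {H : Subgroup G} [Fintype H] [Fintype (Subgroup.normalizer (H : Set G))]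

/-- The sum of the conjugates of a linear character. -/
noncomputable def orbSum (ψ : H →* ℂˣ) (b : H) : ℂ :=
  ∑ n : Subgroup.normalizer (H : Set G), (ψ (conjH n b) : ℂ)

/-- The multiplicity of a linear character of `H`, times the order of `H`. -/
noncomputable def mult (ψ : H →* ℂˣ) (χ : G → ℂ) : ℂ := ∑ b : H, conj (ψ b : ℂ) * χ b

theorem conj_lin (ψ : H →* ℂˣ) (b : H) : conj (ψ b : ℂ) = (ψ b⁻¹ : ℂ) :=
  (char_inv (isCharacter_linear ψ) b).symm

theorem orbSum_conjH (ψ : H →* ℂˣ) (m : Subgroup.normalizer (H : Set G)) (b : H) :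
    orbSum ψ (conjH m b) = orbSum ψ b := by
  refine Fintype.sum_equiv (Equiv.mulRight m) _ _ fun n => ?_
  rw [conjH_conjH]
  rfl

theorem orbSum_one (ψ : H →* ℂˣ) :
    orbSum ψ (1 : H) = Nat.card (Subgroup.normalizer (H : Set G)) := by
  have : ∀ n : Subgroup.normalizer (H : Set G), conjH n (1 : H) = 1 := fun n =>
    Subtype.ext (by simp)
  simp [orbSum, this, Nat.card_eq_fintype_card]

theorem orbSum_trivial (b : H) :
    orbSum (1 : H →* ℂˣ) b = Nat.card (Subgroup.normalizer (H : Set G)) := by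
  simp [orbSum, Nat.card_eq_fintype_card]

theorem mult_nat (ψ : H →* ℂˣ) {χ : G → ℂ} (hχ : IsCharacter G χ) :
    ∃ m : ℕ, mult ψ χ = (Nat.card H : ℂ) * m := by
  obtain ⟨m, hm⟩ := classInner_natCast (isCharacter_comp H.subtype hχ) (isCharacter_linear ψ)
  refine ⟨m, ?_⟩
  rw [← hm, classInner, ← mul_assoc, mul_inv_cancel₀ (Nat.cast_ne_zero.mpr Nat.card_pos.ne'),
    one_mul, mult]
  exact Finset.sum_congr rfl fun b _ => mul_comm _ _

open scoped Classical in
/-- Orthogonality of linear characters. -/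
theorem sum_lin (μ ν : H →* ℂˣ) :
    ∑ b : H, conj (μ b : ℂ) * (ν b : ℂ) = if ν = μ then (Nat.card H : ℂ) else 0 := by
  have h := irr_orth (isIrrCharacter_linear ν) (isIrrCharacter_linear μ)
  have hiff : ((fun g : H => (ν g : ℂ)) = fun g : H => (μ g : ℂ)) ↔ ν = μ :=
    ⟨fun h => MonoidHom.ext fun g => Units.ext (congrFun h g), fun h => h ▸ rfl⟩
  simp only [hiff] at h
  rw [classInner, inv_mul_eq_iff_eq_mul₀ (Nat.cast_ne_zero.mpr Nat.card_pos.ne'), mul_ite,
    mul_one, mul_zero] at h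
  rw [← h]
  exact Finset.sum_congr rfl fun b _ => mul_comm _ _

/-- A conjugate of a linear character of `H`. -/
noncomputable def conjLin (ψ : H →* ℂˣ) (n : Subgroup.normalizer (H : Set G)) : H →* ℂˣ where
  toFun b := ψ (conjH n b)
  map_one' := by rw [show conjH n (1 : H) = 1 from Subtype.ext (by simp), map_one]
  map_mul' a b := by rw [conjH_mul, map_mul]

theorem orbSum_conjLin (ψ : H →* ℂˣ) (m : Subgroup.normalizer (H : Set G)) (b : H) :
    orbSum (conjLin ψ m) b = orbSum ψ b := by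
  refine Fintype.sum_equiv (Equiv.mulLeft m) _ _ fun n => ?_
  show (ψ (conjH m (conjH n b)) : ℂ) = _
  rw [conjH_conjH]
  rfl

open scoped Classical in
/-- How often `μ` occurs among the conjugates of `ψ`. -/
noncomputable def cnt (ψ μ : H →* ℂˣ) : ℕ :=
  (Finset.univ.filter fun n : Subgroup.normalizer (H : Set G) => conjLin ψ n = μ).card

theorem sum_lin_orbSum (ψ μ : H →* ℂˣ) :
    ∑ b : H, conj (μ b : ℂ) * orbSum ψ b = (Nat.card H : ℂ) * cnt ψ μ := by
  classical
  simp only [orbSum, Finset.mul_sum]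
  rw [Finset.sum_comm]
  have : ∀ n : Subgroup.normalizer (H : Set G), ∑ b : H, conj (μ b : ℂ) * (ψ (conjH n b) : ℂ) =
      if conjLin ψ n = μ then (Nat.card H : ℂ) else 0 := fun n => sum_lin μ (conjLin ψ n)
  rw [Finset.sum_congr rfl fun n _ => this n, ← Finset.sum_filter, Finset.sum_const, nsmul_eq_mul,
    mul_comm, cnt]

theorem cnt_self_pos (ψ : H →* ℂˣ) : 0 < cnt ψ ψ := by
  classical
  refine Finset.card_pos.2 ⟨1, Finset.mem_filter.2 ⟨Finset.mem_univ _, ?_⟩⟩
  refine MonoidHom.ext fun b => ?_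
  show ψ (conjH 1 b) = ψ b
  rw [show conjH (1 : Subgroup.normalizer (H : Set G)) b = b from Subtype.ext (by simp)]

theorem cnt_trivial {ψ : H →* ℂˣ} (hψ : ψ ≠ 1) : cnt ψ 1 = 0 := by
  classical
  refine Finset.card_eq_zero.2 (Finset.filter_eq_empty_iff.2 fun n _ h => hψ (MonoidHom.ext fun b => ?_))
  obtain ⟨b, rfl⟩ := (conjH n).surjective b
  exact DFunLike.congr_fun h b

theorem sum_orb_lin (ψ : H →* ℂˣ) {c : G} (hc : c ∈ H) :
    (Nat.card (Subgroup.normalizer (H : Set G)) : ℂ) * ∑ d ∈ orb H c, conj (ψ d : ℂ) =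
      ((orb H c).card : ℂ) * conj (orbSum ψ ⟨c, hc⟩) := by
  have h1 : ∀ d ∈ orb H c, orbSum ψ d = orbSum ψ ⟨c, hc⟩ := fun d hd => by
    obtain ⟨n, hn⟩ := mem_orb.1 hd
    rw [← orbSum_conjH ψ n ⟨c, hc⟩, show conjH n ⟨c, hc⟩ = d from Subtype.ext hn]
  have h2 : ∑ d ∈ orb H c, conj (orbSum ψ d) =
      (Nat.card (Subgroup.normalizer (H : Set G)) : ℂ) * ∑ d ∈ orb H c, conj (ψ d : ℂ) := by
    simp only [orbSum, map_sum]
    rw [Finset.sum_comm, Finset.sum_congr rfl fun n _ => sum_orb_conjH n fun d => conj (ψ d : ℂ),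
      Finset.sum_const, Finset.card_univ, nsmul_eq_mul, Nat.card_eq_fintype_card]
  rw [← h2, Finset.sum_congr rfl fun d hd => congrArg conj (h1 d hd), Finset.sum_const, nsmul_eq_mul]

variable (hM : IsPModular p M) (hH : Hyp p H) (hv : ValOK M p H)
include hM hH hv

/-- The key identity. -/
theorem identity (ψ : H →* ℂˣ) (a c : H) (hc1 : (c : G) ≠ 1) :
    (Nat.card (Subgroup.normalizer (H : Set G)) : ℂ) ^ 2 *
      ∑ χ ∈ b0 M G, mult ψ (χ : G → ℂ) / (χ : G → ℂ) 1 *
        ((χ : G → ℂ) a * conj ((χ : G → ℂ) c)) =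
    colIp M (c : G) c * ((orb H (c : G)).card : ℂ) * (orbSum ψ a * conj (orbSum ψ c)) := by
  set N := (Nat.card (Subgroup.normalizer (H : Set G)) : ℂ) with hN
  have hφ : ∀ n b, conj (orbSum ψ (conjH n b)) = conj (orbSum ψ b) := fun n b => by
    rw [orbSum_conjH]
  have hT : ∀ χ : IrrCharacter G, ∑ b : H, conj (orbSum ψ b) * (χ : G → ℂ) b =
      N * mult ψ (χ : G → ℂ) := by
    intro χ
    simp only [orbSum, map_sum, Finset.sum_mul]
    rw [Finset.sum_comm, hN, Nat.card_eq_fintype_card, ← nsmul_eq_mul, ← Finset.card_univ,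
      ← Finset.sum_const]
    refine Finset.sum_congr rfl fun n _ => ?_
    rw [mult, ← Equiv.sum_comp (conjH n) (fun b : H => conj (ψ b : ℂ) * (χ : G → ℂ) b)]
    refine Finset.sum_congr rfl fun b _ => ?_
    rw [conjH_coe, isClassFunction_character (irr_isCharacter χ.2)]
  have h := colIp_average hM hH hv (fun b => conj (orbSum ψ b)) hφ c.2 hc1 a
  have e : ∑ d ∈ orb H (c : G), conj (orbSum ψ (a⁻¹ * d)) =
      orbSum ψ a * ∑ d ∈ orb H (c : G), conj (ψ d : ℂ) := by
    simp only [orbSum, map_sum]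
    rw [Finset.sum_comm, Finset.sum_mul]
    refine Finset.sum_congr rfl fun n _ => ?_
    rw [← sum_orb_conjH n fun d => conj (ψ d : ℂ), Finset.mul_sum]
    refine Finset.sum_congr rfl fun d _ => ?_
    rw [conjH_mul, map_mul, Units.val_mul, map_mul, conj_lin ψ (conjH n a⁻¹)]
    congr 2
    rw [show (conjH n a⁻¹)⁻¹ = conjH n a from Subtype.ext (by simp [mul_assoc])]
  rw [e] at h
  have h2 := sum_orb_lin ψ c.2
  rw [Finset.sum_congr rfl fun χ _ => by rw [hT χ, mul_div_assoc, mul_assoc], ← Finset.mul_sum] at h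
  rw [pow_two, mul_assoc, h]
  linear_combination (colIp M (c : G) c * orbSum ψ a) * h2

theorem const_E (a c : H) (ha1 : (a : G) ≠ 1) (hc1 : (c : G) ≠ 1) :
    colIp M (a : G) a * ((orb H (a : G)).card : ℂ) = colIp M (c : G) c * ((orb H (c : G)).card : ℂ) := by
  have h1 := identity hM hH hv (1 : H →* ℂˣ) a c hc1
  have h2 := congrArg conj (identity hM hH hv (1 : H →* ℂˣ) c a ha1)
  simp only [orbSum_trivial, map_mul, map_pow, map_sum, map_div₀, Complex.conj_natCast,
    Complex.conj_conj, conj_colIp] at h1 h2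
  have hN : (Nat.card (Subgroup.normalizer (H : Set G)) : ℂ) ≠ 0 :=
    Nat.cast_ne_zero.mpr Nat.card_pos.ne'
  refine mul_right_cancel₀ (mul_ne_zero hN hN) (h2.symm.trans (Eq.trans ?_ h1))
  congr 1
  refine Finset.sum_congr rfl fun χ _ => ?_
  obtain ⟨m, hm⟩ := mult_nat (1 : H →* ℂˣ) (irr_isCharacter χ.2)
  rw [hm, map_mul, Complex.conj_natCast, Complex.conj_natCast, conj_char_one (irr_isCharacter χ.2)]
  ring

/-- On `H ∖ 1` a principal character is proportional to each orbit sum it contains. -/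
theorem rank_one (ψ : H →* ℂˣ) {χ : IrrCharacter G} (hχ : χ ∈ b0 M G)
    (hm : mult ψ (χ : G → ℂ) ≠ 0) (a c : H) (ha1 : (a : G) ≠ 1) (hc1 : (c : G) ≠ 1) :
    (χ : G → ℂ) a * orbSum ψ c = (χ : G → ℂ) c * orbSum ψ a := by
  choose m hm' using fun ξ : IrrCharacter G => mult_nat ψ (irr_isCharacter ξ.2)
  set w : IrrCharacter G → ℝ := fun ξ => (Nat.card H : ℝ) * m ξ / deg (ξ : G → ℂ) with hw
  have hwc : ∀ ξ : IrrCharacter G, (w ξ : ℂ) = mult ψ (ξ : G → ℂ) / (ξ : G → ℂ) 1 := fun ξ => by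
    rw [hm', char_one_eq_deg (irr_isCharacter ξ.2), hw]
    push_cast
    rfl
  set z : IrrCharacter G → ℂ := fun ξ =>
    (ξ : G → ℂ) a * orbSum ψ c - (ξ : G → ℂ) c * orbSum ψ a with hz
  have hN : (Nat.card (Subgroup.normalizer (H : Set G)) : ℂ) ^ 2 ≠ 0 :=
    pow_ne_zero _ (Nat.cast_ne_zero.mpr Nat.card_pos.ne')
  have h0 : ∑ ξ ∈ b0 M G, (w ξ : ℂ) * (z ξ * conj (z ξ)) = 0 := by
    refine (mul_eq_zero.1 (?_ : (Nat.card (Subgroup.normalizer (H : Set G)) : ℂ) ^ 2 * _ = 0)).resolve_left hN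
    have e : ∀ ξ : IrrCharacter G, (w ξ : ℂ) * (z ξ * conj (z ξ)) =
        orbSum ψ c * conj (orbSum ψ c) *
          (mult ψ (ξ : G → ℂ) / (ξ : G → ℂ) 1 * ((ξ : G → ℂ) a * conj ((ξ : G → ℂ) a)))
        - orbSum ψ c * conj (orbSum ψ a) *
          (mult ψ (ξ : G → ℂ) / (ξ : G → ℂ) 1 * ((ξ : G → ℂ) a * conj ((ξ : G → ℂ) c)))
        - orbSum ψ a * conj (orbSum ψ c) *
          (mult ψ (ξ : G → ℂ) / (ξ : G → ℂ) 1 * ((ξ : G → ℂ) c * conj ((ξ : G → ℂ) a)))
        + orbSum ψ a * conj (orbSum ψ a) *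
          (mult ψ (ξ : G → ℂ) / (ξ : G → ℂ) 1 * ((ξ : G → ℂ) c * conj ((ξ : G → ℂ) c))) := by
      intro ξ
      rw [hwc, hz, map_sub, map_mul, map_mul]
      ring
    simp only [e, Finset.sum_add_distrib, Finset.sum_sub_distrib, ← Finset.mul_sum]
    have k1 := identity hM hH hv ψ a a ha1
    have k2 := identity hM hH hv ψ a c hc1
    have k3 := identity hM hH hv ψ c a ha1
    have k4 := identity hM hH hv ψ c c hc1
    have hE := const_E hM hH hv a c ha1 hc1
    linear_combination (orbSum ψ c * conj (orbSum ψ c)) * k1 - (orbSum ψ c * conj (orbSum ψ a)) * k2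
      - (orbSum ψ a * conj (orbSum ψ c)) * k3 + (orbSum ψ a * conj (orbSum ψ a)) * k4
  have h1 : ∑ ξ ∈ b0 M G, w ξ * Complex.normSq (z ξ) = 0 := by
    simp only [Complex.mul_conj] at h0
    exact_mod_cast h0
  have h2 := (Finset.sum_eq_zero_iff_of_nonneg fun ξ _ =>
    mul_nonneg (by positivity) (Complex.normSq_nonneg _)).1 h1 χ hχ
  refine sub_eq_zero.1 (Complex.normSq_eq_zero.1 ((mul_eq_zero.1 h2).resolve_left fun h => hm ?_))
  have := hwc χ
  rw [h, Complex.ofReal_zero] at this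
  exact (div_eq_zero_iff.1 this.symm).resolve_right (irr_one_ne_zero χ.2)

end Cfsg.Agent.Lie.EC
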